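import Mathlib
import Cfsg.Agent.H844.UnipDl

/-!
# Isometries of order three of quadratic spaces over `F₃` (helper844), VII: tools for explicit models
-/

set_option autoImplicit false
set_option linter.unusedSectionVars false

namespace Cfsg.Agent.H844.Unip

open QuadraticMap Cfsg.Agent.LieClassical.OrthCore Cfsg.Agent.LieClassical.OrthTrans

section General

variable {V : Type*} [AddCommGroup V] [Module (ZMod 3) V] (Q : QuadraticForm (ZMod 3) V)

/-- the infinitesimal Siegel transformation -/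
def dd (u w : V) : V →ₗ[ZMod 3] V where
  toFun v := polar Q u v • w - polar Q w v • u
  map_add' a b := by
    rw [pol_add_right, pol_add_right, add_smul, add_smul]; abel
  map_smul' a b := by
    rw [pol_smul_right, pol_smul_right, mul_smul, mul_smul, RingHom.id_apply, smul_sub]

theorem dd_apply (u w v : V) : dd Q u w v = polar Q u v • w - polar Q w v • u := rfl

theorem dd_skew (u w v v' : V) : polar Q (dd Q u w v) v' = - polar Q v (dd Q u w v') := by
  simp only [dd_apply, pol_sub_left, pol_sub_right, pol_smul_left, pol_smul_right]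
  rw [pol_comm v w, pol_comm v u]
  ring

/-- the reflection as a linear map, `F₃` -/
def rf (v : V) : V →ₗ[ZMod 3] V where
  toFun x := x - (Q v * polar Q v x) • v
  map_add' a b := by
    rw [pol_add_right, mul_add, add_smul]; abel
  map_smul' a b := by
    rw [pol_smul_right, RingHom.id_apply, smul_sub, smul_smul]
    congr 2
    ring

theorem rf_apply (v x : V) : rf Q v x = x - (Q v * polar Q v x) • v := rfl

theorem inv3 {a : ZMod 3} (h : a ≠ 0) : a⁻¹ = a := by
  have h1 := inv_mul_self3 h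
  exact inv_eq_of_mul_eq_one_left h1

theorem refl_eq_rf {v : V} (hv : Q v ≠ 0) (x : V) : refl Q v hv x = rf Q v x := by
  rw [refl_apply, rf_apply, inv3 hv]

variable {Q} {L : V →ₗ[ZMod 3] V} {S : Shp} {τ : Fin S.m → ZMod 3} {p : Fin S.m → V}

/-- powers 0, 1, 2 -/
def Lk (L : V →ₗ[ZMod 3] V) : ℕ → V → V
  | 0, v => v
  | 1, v => L v
  | 2, v => L (L v)
  | _, _ => 0

theorem Lk_eq (hL : Sk Q L) (k : ℕ) (v : V) : (L ^ k) v = Lk L k v := by
  rcases k with _ | _ | _ | k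
  · rfl
  · rw [zero_add, pow_one]; rfl
  · rw [show 0 + 1 + 1 = 2 from rfl, pow_two_apply]; rfl
  · rw [hL.pow_three _ (by omega)]; rfl

/-- a frame from a finite table -/
theorem Fr.of_table (hL : Sk Q L) (h1 : ∀ i, Lk L (S.l i) (p i) = 0) (h2 : ∀ i, S.l i ≤ 3)
    (h3 : ∀ i j, ∀ k : Fin 3, polar Q (p i) (Lk L k (p j)) = if j = S.s i ∧ (k : ℕ) + 1 = S.l i then τ i else 0)
    (h4 : ∀ i, τ i ≠ 0) : Fr Q L S τ p where
  top i := by rw [Lk_eq hL, h1]
  pair i j k := by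
    by_cases hk : k < 3
    · rw [Lk_eq hL]
      exact h3 i j ⟨k, hk⟩
    · rw [hL.pow_three k (by omega), pol_zero_right, if_neg]
      rintro ⟨-, h⟩
      have := h2 i
      omega
  ne := h4

/-- generators modulo the image of `L` -/
theorem Fr.gens [FiniteDimensional (ZMod 3) V] (hL : Sk Q L) (hS : S.Ok) (hp : Fr Q L S τ p)
    (hd : S.dim = Module.finrank (ZMod 3) V) (y : V) : ∃ (c : Fin S.m → ZMod 3) (y' : V), y = ∑ i, c i • p i + L y' := by
  have hb := hp.basis_apply hL hS hd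
  set b := hp.basis hL hS hd
  have hy : y ∈ Submodule.span (ZMod 3) (Set.range b) := by rw [b.span_eq]; trivial
  induction hy using Submodule.span_induction with
  | mem x hx =>
    obtain ⟨⟨i, s⟩, rfl⟩ := hx
    rw [hb]
    obtain ⟨s, hs⟩ := s
    rcases s with _ | s
    · refine ⟨Pi.single i 1, 0, ?_⟩
      rw [map_zero, add_zero, Finset.sum_eq_single i]
      · rw [Pi.single_eq_same, one_smul]
        rfl
      · intro j _ hj
        rw [Pi.single_eq_of_ne hj, zero_smul]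
      · intro h; exact absurd (Finset.mem_univ _) h
    · refine ⟨0, (L ^ s) (p i), ?_⟩
      rw [Finset.sum_eq_zero (fun j _ => by rw [Pi.zero_apply, zero_smul]), zero_add]
      show (L ^ (s + 1)) (p i) = _
      rw [pow_succ', Module.End.mul_apply]
  | zero => exact ⟨0, 0, by simp⟩
  | add x y _ _ hx hy =>
    obtain ⟨c, x', hx⟩ := hx
    obtain ⟨c', y', hy⟩ := hy
    refine ⟨c + c', x' + y', ?_⟩
    rw [hx, hy, map_add]
    simp only [Pi.add_apply, add_smul, Finset.sum_add_distrib]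
    abel
  | smul a x _ hx =>
    obtain ⟨c, x', hx⟩ := hx
    refine ⟨a • c, a • x', ?_⟩
    rw [hx, map_smul, smul_add, Finset.smul_sum]
    simp only [Pi.smul_apply, smul_eq_mul, mul_smul]

/-- one block of length three: the second power -/
theorem LL_one [FiniteDimensional (ZMod 3) V] (hL : Sk Q L) (hS : S.Ok) (hp : Fr Q L S τ p)
    (hd : S.dim = Module.finrank (ZMod 3) V)
    (h3 : ∀ i, S.l i ≤ 3) (hs : ∀ i, S.l i = 3 → S.s i = i) (i0 : Fin S.m) (h0 : S.l i0 = 3)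
    (h1 : ∀ i, i ≠ i0 → S.l i ≠ 3) (v : V) :
    L (L v) = (τ i0 * polar Q v (L (L (p i0)))) • L (L (p i0)) := by
  rw [LL_exp hL hS hp hd h3 hs, Finset.sum_eq_single i0, if_pos h0]
  · intro i _ hi
    rw [if_neg (h1 i hi)]
  · intro h; exact absurd (Finset.mem_univ _) h

/-- two blocks of length three: the second power -/
theorem LL_two [FiniteDimensional (ZMod 3) V] (hL : Sk Q L) (hS : S.Ok) (hp : Fr Q L S τ p)
    (hd : S.dim = Module.finrank (ZMod 3) V)
    (h3 : ∀ i, S.l i ≤ 3) (hs : ∀ i, S.l i = 3 → S.s i = i) (i0 i1 : Fin S.m) (h01 : i0 ≠ i1) (h0 : S.l i0 = 3)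
    (h0' : S.l i1 = 3) (h1 : ∀ i, i ≠ i0 → i ≠ i1 → S.l i ≠ 3) (v : V) :
    L (L v) = (τ i0 * polar Q v (L (L (p i0)))) • L (L (p i0)) + (τ i1 * polar Q v (L (L (p i1)))) • L (L (p i1)) := by
  rw [LL_exp hL hS hp hd h3 hs, Finset.sum_eq_add i0 i1 h01, if_pos h0, if_pos h0']
  · intro i _ hi
    rw [if_neg (h1 i hi.1 hi.2)]
  · intro h; exact absurd (Finset.mem_univ _) h
  · intro h; exact absurd (Finset.mem_univ _) h

theorem not_P2 [FiniteDimensional (ZMod 3) V] (hL : Sk Q L) (hS : S.Ok) (hp : Fr Q L S τ p)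
    (hd : S.dim = Module.finrank (ZMod 3) V)
    (h3 : ∀ i, S.l i ≤ 3) (hs : ∀ i, S.l i = 3 → S.s i = i) (i0 : Fin S.m) (h0 : S.l i0 = 3)
    (h1 : ∀ i, i ≠ i0 → S.l i ≠ 3) (hτ : τ i0 = 1) : ¬ P2 Q L := by
  rintro ⟨v, hv⟩
  rw [LL_one hL hS hp hd h3 hs i0 h0 h1 v, hτ, pol_smul_right] at hv
  revert hv
  generalize polar Q v (L (L (p i0))) = a
  revert a
  decide

theorem not_P3 [FiniteDimensional (ZMod 3) V] (hL : Sk Q L) (hS : S.Ok) (hp : Fr Q L S τ p)
    (hd : S.dim = Module.finrank (ZMod 3) V)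
    (h3 : ∀ i, S.l i ≤ 3) (hs : ∀ i, S.l i = 3 → S.s i = i) (i0 i1 : Fin S.m) (h01 : i0 ≠ i1) (h0 : S.l i0 = 3)
    (h0' : S.l i1 = 3) (h1 : ∀ i, i ≠ i0 → i ≠ i1 → S.l i ≠ 3) (hτ : τ i0 = 1) (hτ' : τ i1 = 1) : ¬ P3 Q L := by
  rintro ⟨v, hv, hv'⟩
  have h2 := LL_two hL hS hp hd h3 hs i0 i1 h01 h0 h0' h1 v
  rw [h2, hτ, hτ', pol_add_right, pol_smul_right, pol_smul_right] at hv'
  have h4 : ∀ a b : ZMod 3, 1 * a * a + 1 * b * b = 0 → a = 0 ∧ b = 0 := by decide
  obtain ⟨h5, h6⟩ := h4 _ _ hv'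
  apply hv
  rw [h2, h5, h6, mul_zero, zero_smul, mul_zero, zero_smul, add_zero]

end General

section Pi

variable {ι : Type} [Fintype ι] [DecidableEq ι] {Q : QuadraticForm (ZMod 3) (ι → ZMod 3)}

theorem ext_basis {M M' : (ι → ZMod 3) →ₗ[ZMod 3] (ι → ZMod 3)} (h : ∀ i, M (Pi.single i 1) = M' (Pi.single i 1))
    (v : ι → ZMod 3) : M v = M' v := by
  have : M = M' := LinearMap.pi_ext' fun i => LinearMap.ext_ring (h i)
  rw [this]

theorem sk_of {L : (ι → ZMod 3) →ₗ[ZMod 3] (ι → ZMod 3)} (h : ∀ v w, polar Q (L v) w = - polar Q v (L w))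
    (h3 : ∀ i, L (L (L (Pi.single i 1))) = 0) : Sk Q L where
  skew := h
  cube := ext_basis (M := L ∘ₗ L ∘ₗ L) (M' := 0) h3

end Pi

end Cfsg.Agent.H844.Unip
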