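import Mathlib
import Cfsg.Agent.H844.UnipTools
import Cfsg.Agent.H844.Assem
import Cfsg.Agent.ClassicalGeometry.OrthAut1
import Cfsg.Agent.H844.PCenter

/-!
# Isometries of order three of quadratic spaces over `F₃` (helper844), VIII: explicit models
-/

set_option autoImplicit false
set_option linter.unusedSectionVars false

namespace Cfsg.Agent.H844.Unip

open QuadraticMap Cfsg.Agent.LieClassical.OrthCore Cfsg.Agent.LieClassical.OrthTrans

variable {ι : Type} [Fintype ι] [DecidableEq ι] (Q : QuadraticForm (ZMod 3) (ι → ZMod 3))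

/-- the reflection, or `1` -/
noncomputable def rfe (v : ι → ZMod 3) : O Q := if h : Q v ≠ 0 then ⟨refl Q v h, refl_mem_O h⟩ else 1

theorem rfe_apply (v x : ι → ZMod 3) : (rfe Q v : (ι → ZMod 3) ≃ₗ[ZMod 3] (ι → ZMod 3)) x = rf Q v x := by
  rw [rfe]
  split_ifs with h
  · exact refl_eq_rf Q h x
  · rw [not_not] at h
    rw [rf_apply, h, zero_mul, zero_smul, sub_zero]
    rfl

/-- the type of a reflection -/
def tq (a : ZMod 3) : AA := if a = 0 then 1 else if a = 1 then (-1, -1) else (-1, 1)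

theorem dl_rfe (v : ι → ZMod 3) : dl Q (rfe Q v) = tq (Q v) := by
  by_cases h : Q v = 0
  · rw [rfe, dif_neg (not_not.2 h), tq, if_pos h, map_one]
  · rw [rfe, dif_pos h, tq, if_neg h, dl_refl]
    by_cases h2 : Q v = 1
    · rw [if_pos h2, if_pos h2]
    · rw [if_neg h2, if_neg h2]

/-- products of reflections -/
noncomputable def rfs (l : List (ι → ZMod 3)) : O Q := (l.map (rfe Q)).prod

/-- the action of a product of reflections -/
def rfa : List (ι → ZMod 3) → ((ι → ZMod 3) →ₗ[ZMod 3] (ι → ZMod 3))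
  | [] => LinearMap.id
  | v :: l => rf Q v ∘ₗ rfa l

theorem rfs_apply (l : List (ι → ZMod 3)) (x : ι → ZMod 3) :
    (rfs Q l : (ι → ZMod 3) ≃ₗ[ZMod 3] (ι → ZMod 3)) x = rfa Q l x := by
  induction l generalizing x with
  | nil => rfl
  | cons v l ih =>
    rw [rfs, List.map_cons, List.prod_cons]
    show (rfe Q v : (ι → ZMod 3) ≃ₗ[ZMod 3] (ι → ZMod 3)) ((rfs Q l : (ι → ZMod 3) ≃ₗ[ZMod 3] (ι → ZMod 3)) x) = _
    rw [ih, rfe_apply]
    rfl

theorem dl_rfs (l : List (ι → ZMod 3)) : dl Q (rfs Q l) = (l.map fun v => tq (Q v)).prod := by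
  rw [rfs, map_list_prod, List.map_map]
  congr 1
  apply List.map_congr_left
  intro v _
  exact dl_rfe Q v

variable {Q} {L L' : (ι → ZMod 3) →ₗ[ZMod 3] (ι → ZMod 3)}

/-- intertwining from a table -/
theorem rfs_comm {l : List (ι → ZMod 3)} (h : ∀ i, rfa Q l (L (Pi.single i 1)) = L' (rfa Q l (Pi.single i 1)))
    (v : ι → ZMod 3) : (rfs Q l : (ι → ZMod 3) ≃ₗ[ZMod 3] (ι → ZMod 3)) (L v)
      = L' ((rfs Q l : (ι → ZMod 3) ≃ₗ[ZMod 3] (ι → ZMod 3)) v) := by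
  rw [rfs_apply, rfs_apply]
  exact ext_basis (M := rfa Q l ∘ₗ L) (M' := L' ∘ₗ rfa Q l) h v

theorem AA_cases (a : AA) : a = 1 ∨ a = (-1, 1) ∨ a = (-1, -1) ∨ a = (-1, 1) * (-1, -1) := by
  revert a; decide

/-- the centralizer has full image -/
theorem full (hL : Sk Q L) (l1 l2 : List (ι → ZMod 3))
    (h1 : ∀ i, rfa Q l1 (L (Pi.single i 1)) = L (rfa Q l1 (Pi.single i 1)))
    (h1' : (l1.map fun v => tq (Q v)).prod = (-1, 1))
    (h2 : ∀ i, rfa Q l2 (L (Pi.single i 1)) = L (rfa Q l2 (Pi.single i 1)))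
    (h2' : (l2.map fun v => tq (Q v)).prod = (-1, -1)) (a : AA) :
    ∃ g, g * exO hL * g⁻¹ = exO hL ∧ dl Q g = a := by
  have e1 : rfs Q l1 * exO hL * (rfs Q l1)⁻¹ = exO hL := conj_ex_of (rfs_comm h1)
  have e2 : rfs Q l2 * exO hL * (rfs Q l2)⁻¹ = exO hL := conj_ex_of (rfs_comm h2)
  rcases AA_cases a with h | h | h | h
  · exact ⟨1, by rw [one_mul, inv_one, mul_one], by rw [map_one, h]⟩
  · exact ⟨_, e1, by rw [dl_rfs, h1', h]⟩
  · exact ⟨_, e2, by rw [dl_rfs, h2', h]⟩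
  · refine ⟨rfs Q l1 * rfs Q l2, ?_, by rw [map_mul, dl_rfs, dl_rfs, h1', h2', h]⟩
    have : rfs Q l1 * rfs Q l2 * exO hL * (rfs Q l1 * rfs Q l2)⁻¹
        = rfs Q l1 * (rfs Q l2 * exO hL * (rfs Q l2)⁻¹) * (rfs Q l1)⁻¹ := by group
    rw [this, e2, e1]

/-- the centralizer contains at least this -/
theorem half (hL : Sk Q L) (l1 : List (ι → ZMod 3)) (b : AA)
    (h1 : ∀ i, rfa Q l1 (L (Pi.single i 1)) = L (rfa Q l1 (Pi.single i 1)))
    (h1' : (l1.map fun v => tq (Q v)).prod = b) (a : AA) (ha : a = 1 ∨ a = b) :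
    ∃ g, g * exO hL * g⁻¹ = exO hL ∧ dl Q g = a := by
  have e1 : rfs Q l1 * exO hL * (rfs Q l1)⁻¹ = exO hL := conj_ex_of (rfs_comm h1)
  rcases ha with h | h
  · exact ⟨1, by rw [one_mul, inv_one, mul_one], by rw [map_one, h]⟩
  · exact ⟨_, e1, by rw [dl_rfs, h1', h]⟩

/-- reality from a table -/
theorem real_of (hL : Sk Q L) (l1 : List (ι → ZMod 3))
    (h1 : ∀ i, rfa Q l1 (L (Pi.single i 1)) = (-L) (rfa Q l1 (Pi.single i 1))) :
    rfs Q l1 * exO hL * (rfs Q l1)⁻¹ = (exO hL)⁻¹ := by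
  rw [← exO_neg]
  exact conj_ex_of (rfs_comm h1)

variable (Q) in
/-- a type -/
structure Typ where
  L : (ι → ZMod 3) →ₗ[ZMod 3] (ι → ZMod 3)
  S : Shp
  τ : Fin S.m → ZMod 3
  p : Fin S.m → ι → ZMod 3
  p' : Fin S.m → ι → ZMod 3
  sk : Sk Q L
  ok : S.Ok
  dim : S.dim = Module.finrank (ZMod 3) (ι → ZMod 3)
  fr : Fr Q L S τ p
  fr' : Fr Q (-L) S τ p'

/-- the rank of a power -/
def Shp.rk (S : Shp) (k : ℕ) : ℕ := ∑ i, (S.l i - k)

theorem Typ.rank (M : Typ Q) (k : ℕ) : Module.finrank (ZMod 3) (LinearMap.range (M.L ^ k)) = M.S.rk k :=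
  finrank_range_pow M.sk M.ok M.fr M.dim k

theorem Typ.rank' (M : Typ Q) (k : ℕ) : Module.finrank (ZMod 3) (LinearMap.range ((-M.L) ^ k)) = M.S.rk k :=
  finrank_range_pow M.sk.neg M.ok M.fr' M.dim k

theorem P2_neg : P2 Q (-L) ↔ P2 Q L := by
  simp only [P2, LinearMap.neg_apply, map_neg, neg_neg]

theorem P3_neg : P3 Q (-L) ↔ P3 Q L := by
  simp only [P3, LinearMap.neg_apply, map_neg, neg_neg]

theorem inv_comm {g : (ι → ZMod 3) ≃ₗ[ZMod 3] (ι → ZMod 3)} (hg : ∀ v, g (L v) = L' (g v)) (v : ι → ZMod 3) :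
    g⁻¹ (L' v) = L (g⁻¹ v) := by
  have h1 : ∀ w, g (g⁻¹ w) = w := fun w => g.apply_symm_apply w
  apply g.injective
  rw [h1, hg, h1]

theorem P2_iff_of_comm {g : O Q} (hg : ∀ v, (g : (ι → ZMod 3) ≃ₗ[ZMod 3] (ι → ZMod 3)) (L v) =
    L' ((g : (ι → ZMod 3) ≃ₗ[ZMod 3] (ι → ZMod 3)) v)) : P2 Q L ↔ P2 Q L' :=
  ⟨P2_of_comm g.2 hg, P2_of_comm (g⁻¹).2 (inv_comm hg)⟩

theorem P3_iff_of_comm {g : O Q} (hg : ∀ v, (g : (ι → ZMod 3) ≃ₗ[ZMod 3] (ι → ZMod 3)) (L v) =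
    L' ((g : (ι → ZMod 3) ≃ₗ[ZMod 3] (ι → ZMod 3)) v)) : P3 Q L ↔ P3 Q L' :=
  ⟨P3_of_comm g.2 hg, P3_of_comm (g⁻¹).2 (inv_comm hg)⟩

theorem exO_ne (hL : Sk Q L) (h : L ≠ 0) : exO hL ≠ 1 := by
  intro h1
  apply h
  have h2 : lg (ex hL) = 0 := by
    have h3 : ex hL = 1 := congrArg Subtype.val h1
    rw [h3]
    refine LinearMap.ext fun v => ?_
    rw [lg_apply]
    exact sub_self _
  rwa [lg_ex] at h2

theorem exO_one (hL : Sk Q L) (h : L = 0) : exO hL = 1 := by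
  apply Subtype.ext
  ext1 v
  show ex hL v = v
  rw [ex_apply, h]
  simp

/-- **The assembly.** -/
theorem dat {T : Type*} (M : T → Typ Q) (C : T → AA → Prop) (h0 : ∀ t, (M t).S.rk 1 ≠ 0)
    (hcov : ∀ (L : (ι → ZMod 3) →ₗ[ZMod 3] (ι → ZMod 3)), Sk Q L → L ≠ 0 → ∃ t p, Fr Q L (M t).S (M t).τ p)
    (hlow : ∀ t a, C t a → ∃ g, g * exO (M t).sk * g⁻¹ = exO (M t).sk ∧ dl Q g = a)
    (hup : ∀ t (g : O Q), Cm (M t).L (g : (ι → ZMod 3) ≃ₗ[ZMod 3] (ι → ZMod 3)) → C t (dl Q g))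
    (hreal : ∀ t, (∀ a, C t a) ∨ ∃ g, g * exO (M t).sk * g⁻¹ = (exO (M t).sk)⁻¹ ∧ C t (dl Q g))
    (hsep : ∀ t t', (M t).S.rk 1 = (M t').S.rk 1 → (M t).S.rk 2 = (M t').S.rk 2 → (P2 Q (M t).L ↔ P2 Q (M t').L) →
      (P3 Q (M t).L ↔ P3 Q (M t').L) → t = t') :
    Assem.Dat (dl Q) (fun t => exO (M t).sk) C where
  sq := AA_sq
  cube t := exO_three _
  ne t := by
    apply exO_ne
    intro h
    apply h0 t
    rw [← (M t).rank, h, pow_one, LinearMap.range_zero, finrank_bot]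
  hc t a := by
    constructor
    · exact hlow t a
    · rintro ⟨g, hg, rfl⟩
      exact hup t g (of_conj_ex hg)
  cov z hz hz1 := by
    obtain ⟨L, hL, rfl⟩ := exists_exO hz
    have hL0 : L ≠ 0 := fun h => hz1 (exO_one hL h)
    obtain ⟨t, p, hp⟩ := hcov L hL hL0
    obtain ⟨g, hgO, hg, -⟩ := exists_conj hL (M t).sk (M t).ok hp (M t).fr (M t).dim
    exact ⟨t, ⟨g, hgO⟩, conj_ex_of hg⟩
  sep t t' g h := by
    rcases h with h | h
    · have h1 := of_conj_ex h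
      apply hsep
      · have := range_of_comm h1 1
        rwa [Typ.rank, Typ.rank] at this
      · have := range_of_comm h1 2
        rwa [Typ.rank, Typ.rank] at this
      · exact P2_iff_of_comm h1
      · exact P3_iff_of_comm h1
    · rw [← exO_neg] at h
      have h1 := of_conj_ex h
      apply hsep
      · have := range_of_comm h1 1
        rwa [Typ.rank, Typ.rank'] at this
      · have := range_of_comm h1 2
        rwa [Typ.rank, Typ.rank'] at this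
      · exact (P2_iff_of_comm h1).trans P2_neg
      · exact (P3_iff_of_comm h1).trans P3_neg
  real t := by
    rcases hreal t with h | h
    · obtain ⟨g, hgO, hg, -⟩ := exists_conj (M t).sk (M t).sk.neg (M t).ok (M t).fr (M t).fr' (M t).dim
      refine ⟨⟨g, hgO⟩, ?_, h _⟩
      rw [← exO_neg]
      exact conj_ex_of hg
    · exact h

/-! ### The centre -/

theorem ker_center (hG : Good Q) : ∀ z ∈ Subgroup.center (dl Q).ker, z ^ 2 = 1 := by
  intro z hz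
  have hzE : ((z : O Q) : (ι → ZMod 3) ≃ₗ[ZMod 3] (ι → ZMod 3)) ∈ E Q :=
    (mem_E_iff_dl hG _).2 (MonoidHom.mem_ker.1 z.2)
  have h1 : (⟨_, hzE⟩ : E Q) ∈ Subgroup.center (E Q) := by
    rw [Subgroup.mem_center_iff]
    rintro ⟨g, hg⟩
    apply Subtype.ext
    have hg1 : (⟨g, E_le_O hg⟩ : O Q) ∈ (dl Q).ker := MonoidHom.mem_ker.2 ((mem_E_iff_dl hG _).1 hg)
    have h2 := (Subgroup.mem_center_iff.1 hz) ⟨⟨g, E_le_O hg⟩, hg1⟩
    exact congrArg (fun x : (dl Q).ker => ((x : O Q) : (ι → ZMod 3) ≃ₗ[ZMod 3] (ι → ZMod 3))) h2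
  obtain ⟨c, hc⟩ := ClassicalGeometry.OrthAut1.center_scalar hG h1
  apply Subtype.ext
  apply Subtype.ext
  ext1 v
  show ((z : O Q) : (ι → ZMod 3) ≃ₗ[ZMod 3] (ι → ZMod 3)) (((z : O Q) : (ι → ZMod 3) ≃ₗ[ZMod 3] (ι → ZMod 3)) v) = v
  have hc' : ∀ v, ((z : O Q) : (ι → ZMod 3) ≃ₗ[ZMod 3] (ι → ZMod 3)) v = c • v := hc
  rw [hc', hc', smul_smul]
  by_cases h0 : c = 0
  · exfalso
    obtain ⟨x, hx, -⟩ := hG.sing
    apply hx
    apply ((z : O Q) : (ι → ZMod 3) ≃ₗ[ZMod 3] (ι → ZMod 3)).injective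
    rw [hc', h0, zero_smul, map_zero]
  · rw [sq_eq_one h0, one_smul]

/-- `E Q` as the kernel -/
def kerEquiv (hG : Good Q) : (dl Q).ker ≃* E Q where
  toFun z := ⟨((z : O Q) : (ι → ZMod 3) ≃ₗ[ZMod 3] (ι → ZMod 3)), (mem_E_iff_dl hG _).2 (MonoidHom.mem_ker.1 z.2)⟩
  invFun g := ⟨⟨(g : (ι → ZMod 3) ≃ₗ[ZMod 3] (ι → ZMod 3)), E_le_O g.2⟩, MonoidHom.mem_ker.2 ((mem_E_iff_dl hG _).1 g.2)⟩
  left_inv z := rfl
  right_inv g := rfl
  map_mul' z w := rfl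

/-- the simple group -/
noncomputable def ppEquiv (hG : Good Q) : Assem.PP (dl Q) ≃* Cfsg.POmega (ZMod 3) ⇑Q :=
  (LieClassical.OrthFinite.quotientCenterCongr (kerEquiv hG)).trans (PCenter.pomegaE hG).symm

end Cfsg.Agent.H844.Unip
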