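import Mathlib
import Cfsg.Agent.H844.UnipModel
import Cfsg.Agent.LieClassical.OrthForms

/-!
# `PΩ₈⁺(3)`: the classes of elements of order three (helper844)
-/

set_option autoImplicit false
set_option linter.unusedSectionVars false

namespace Cfsg.Agent.H844.Dim8

open QuadraticMap Cfsg.Agent.LieClassical.OrthCore Cfsg.Agent.LieClassical.OrthTrans
  Cfsg.Agent.LieClassical.OrthForms Cfsg.Agent.H844.Unip

theorem nine_one {ι : Type} [Fintype ι] [DecidableEq ι] {Q : QuadraticForm (ZMod 3) (ι → ZMod 3)} (hG : Good Q)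
    {T : (ι → ZMod 3) ≃ₗ[ZMod 3] (ι → ZMod 3)} (hT : T ∈ E Q) (g : O Q)
    (h : (T * (g : (ι → ZMod 3) ≃ₗ[ZMod 3] (ι → ZMod 3))) ^ 9 = 1) : dl Q g = 1 := by
  have h1 := dl_of_nine (⟨T, E_le_O hT⟩ * g) (by rw [Subgroup.coe_mul]; exact h)
  have h2 : dl Q ⟨T, E_le_O hT⟩ = 1 := (mem_E_iff_dl hG _).1 hT
  rwa [map_mul, h2, one_mul] at h1

theorem nine_two {ι : Type} [Fintype ι] [DecidableEq ι] {Q : QuadraticForm (ZMod 3) (ι → ZMod 3)} (hG : Good Q)
    {T : (ι → ZMod 3) ≃ₗ[ZMod 3] (ι → ZMod 3)} (hT : T ∈ E Q) (g D R : O Q) {i j : ℕ}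
    (h : (T * (g : (ι → ZMod 3) ≃ₗ[ZMod 3] (ι → ZMod 3)) * (D : (ι → ZMod 3) ≃ₗ[ZMod 3] (ι → ZMod 3)) ^ i *
      (R : (ι → ZMod 3) ≃ₗ[ZMod 3] (ι → ZMod 3)) ^ j) ^ 9 = 1) : dl Q g * dl Q D ^ i * dl Q R ^ j = 1 := by
  have h1 := dl_of_nine (⟨T, E_le_O hT⟩ * g * D ^ i * R ^ j) (by
    rw [Subgroup.coe_mul, Subgroup.coe_mul, Subgroup.coe_mul, Subgroup.coe_pow, Subgroup.coe_pow]; exact h)
  have h2 : dl Q ⟨T, E_le_O hT⟩ = 1 := (mem_E_iff_dl hG _).1 hT
  rwa [map_mul, map_mul, map_mul, map_pow, map_pow, h2, one_mul] at h1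

abbrev J : Type := Fin 4 ⊕ Fin 4
abbrev V : Type := J → ZMod 3
abbrev Q : QuadraticForm (ZMod 3) V := plusForm 4 (ZMod 3)

def e (i : Fin 4) : V := Pi.single (Sum.inl i) 1
def f (i : Fin 4) : V := Pi.single (Sum.inr i) 1

def LE1 : V →ₗ[ZMod 3] V := dd Q (f 0) (e 2 + f 2) + dd Q (f 1) (e 3 + f 3)
def LE2 : V →ₗ[ZMod 3] V := dd Q (f 0) (e 2 + f 2) + dd Q (f 1) (e 3 - f 3)
def LF1 : V →ₗ[ZMod 3] V := dd Q (f 0) (e 3 + f 3) + dd Q (f 1) (f 2)
def LF2 : V →ₗ[ZMod 3] V := dd Q (f 0) (e 3 - f 3) + dd Q (f 1) (f 2)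
def LG1 : V →ₗ[ZMod 3] V := dd Q (f 0) (e 3 + f 3)
def LG2 : V →ₗ[ZMod 3] V := dd Q (f 0) (e 3 - f 3)
def LH : V →ₗ[ZMod 3] V := dd Q (f 0) (f 1) + dd Q (f 2) (f 3)
def LI : V →ₗ[ZMod 3] V := dd Q (f 0) (f 1)

theorem skd {L L' : V →ₗ[ZMod 3] V} (h : ∀ v w, polar Q (L v) w = - polar Q v (L w))
    (h' : ∀ v w, polar Q (L' v) w = - polar Q v (L' w)) (v w : V) :
    polar Q ((L + L') v) w = - polar Q v ((L + L') w) := by
  rw [LinearMap.add_apply, LinearMap.add_apply, pol_add_left, pol_add_right, h, h', neg_add]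

theorem skE1 : Sk Q LE1 := sk_of (skd (dd_skew Q _ _) (dd_skew Q _ _)) (by decide +kernel)
theorem skE2 : Sk Q LE2 := sk_of (skd (dd_skew Q _ _) (dd_skew Q _ _)) (by decide +kernel)
theorem skF1 : Sk Q LF1 := sk_of (skd (dd_skew Q _ _) (dd_skew Q _ _)) (by decide +kernel)
theorem skF2 : Sk Q LF2 := sk_of (skd (dd_skew Q _ _) (dd_skew Q _ _)) (by decide +kernel)
theorem skG1 : Sk Q LG1 := sk_of (dd_skew Q _ _) (by decide +kernel)
theorem skG2 : Sk Q LG2 := sk_of (dd_skew Q _ _) (by decide +kernel)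
theorem skH : Sk Q LH := sk_of (skd (dd_skew Q _ _) (dd_skew Q _ _)) (by decide +kernel)
theorem skI : Sk Q LI := sk_of (dd_skew Q _ _) (by decide +kernel)

def pE1 : Fin shE.m → V := ![e 0, e 1, e 2 - f 2, e 3 - f 3]
def pE2 : Fin shE.m → V := ![e 0, e 1, e 2 - f 2, e 3 + f 3]
def pF1 : Fin shF.m → V := ![e 0, e 2, e 1, e 3 - f 3]
def pF1' : Fin shF.m → V := ![e 0, - e 2, e 1, e 3 - f 3]
def pF2 : Fin shF.m → V := ![e 0, e 2, e 1, e 3 + f 3]
def pF2' : Fin shF.m → V := ![e 0, - e 2, e 1, e 3 + f 3]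
def pG1 : Fin shG.m → V := ![e 0, e 3 - f 3, e 1 - f 1, e 2 - f 2, e 1 + f 1 + (e 2 + f 2), e 1 + f 1 - (e 2 + f 2)]
def pG2 : Fin shG.m → V := ![e 0, e 1 + f 1 + (e 2 + f 2), e 1 + f 1 - (e 2 + f 2), e 1 - f 1, e 2 - f 2, e 3 + f 3]
def pH : Fin shH.m → V := ![e 1, e 0, e 3, e 2]
def pH' : Fin shH.m → V := ![- e 1, e 0, - e 3, e 2]
def pI : Fin shI.m → V := ![e 1, e 0, e 2 - f 2, e 3 - f 3, e 2 + f 2 + (e 3 + f 3), e 2 + f 2 - (e 3 + f 3)]
def pI' : Fin shI.m → V := ![- e 1, e 0, e 2 - f 2, e 3 - f 3, e 2 + f 2 + (e 3 + f 3), e 2 + f 2 - (e 3 + f 3)]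

theorem okE : shE.Ok := ⟨by decide +kernel, by decide +kernel, by decide +kernel⟩
theorem okF : shF.Ok := ⟨by decide +kernel, by decide +kernel, by decide +kernel⟩
theorem okG : shG.Ok := ⟨by decide +kernel, by decide +kernel, by decide +kernel⟩
theorem okH : shH.Ok := ⟨by decide +kernel, by decide +kernel, by decide +kernel⟩
theorem okI : shI.Ok := ⟨by decide +kernel, by decide +kernel, by decide +kernel⟩

theorem fin8 : Module.finrank (ZMod 3) V = 8 := by
  rw [Module.finrank_fintype_fun_eq_card]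
  rfl

theorem frE1 : Fr Q LE1 shE (tE 1 1) pE1 :=
  Fr.of_table skE1 (by decide +kernel) (by decide +kernel) (by decide +kernel) (by decide +kernel)
theorem frE1' : Fr Q (-LE1) shE (tE 1 1) pE1 :=
  Fr.of_table skE1.neg (by decide +kernel) (by decide +kernel) (by decide +kernel) (by decide +kernel)
theorem frE2 : Fr Q LE2 shE (tE 2 2) pE2 :=
  Fr.of_table skE2 (by decide +kernel) (by decide +kernel) (by decide +kernel) (by decide +kernel)
theorem frE2' : Fr Q (-LE2) shE (tE 2 2) pE2 :=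
  Fr.of_table skE2.neg (by decide +kernel) (by decide +kernel) (by decide +kernel) (by decide +kernel)
theorem frF1 : Fr Q LF1 shF (tF 1 1) pF1 :=
  Fr.of_table skF1 (by decide +kernel) (by decide +kernel) (by decide +kernel) (by decide +kernel)
theorem frF1' : Fr Q (-LF1) shF (tF 1 1) pF1' :=
  Fr.of_table skF1.neg (by decide +kernel) (by decide +kernel) (by decide +kernel) (by decide +kernel)
theorem frF2 : Fr Q LF2 shF (tF 2 2) pF2 :=
  Fr.of_table skF2 (by decide +kernel) (by decide +kernel) (by decide +kernel) (by decide +kernel)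
theorem frF2' : Fr Q (-LF2) shF (tF 2 2) pF2' :=
  Fr.of_table skF2.neg (by decide +kernel) (by decide +kernel) (by decide +kernel) (by decide +kernel)
theorem frG1 : Fr Q LG1 shG (tG 1 1) pG1 :=
  Fr.of_table skG1 (by decide +kernel) (by decide +kernel) (by decide +kernel) (by decide +kernel)
theorem frG1' : Fr Q (-LG1) shG (tG 1 1) pG1 :=
  Fr.of_table skG1.neg (by decide +kernel) (by decide +kernel) (by decide +kernel) (by decide +kernel)
theorem frG2 : Fr Q LG2 shG (tG 2 2) pG2 :=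
  Fr.of_table skG2 (by decide +kernel) (by decide +kernel) (by decide +kernel) (by decide +kernel)
theorem frG2' : Fr Q (-LG2) shG (tG 2 2) pG2 :=
  Fr.of_table skG2.neg (by decide +kernel) (by decide +kernel) (by decide +kernel) (by decide +kernel)
theorem frH : Fr Q LH shH tH pH :=
  Fr.of_table skH (by decide +kernel) (by decide +kernel) (by decide +kernel) (by decide +kernel)
theorem frH' : Fr Q (-LH) shH tH pH' :=
  Fr.of_table skH.neg (by decide +kernel) (by decide +kernel) (by decide +kernel) (by decide +kernel)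
theorem frI : Fr Q LI shI (tI 1) pI :=
  Fr.of_table skI (by decide +kernel) (by decide +kernel) (by decide +kernel) (by decide +kernel)
theorem frI' : Fr Q (-LI) shI (tI 1) pI' :=
  Fr.of_table skI.neg (by decide +kernel) (by decide +kernel) (by decide +kernel) (by decide +kernel)

theorem dimE : shE.dim = Module.finrank (ZMod 3) V := by rw [fin8]; decide +kernel
theorem dimF : shF.dim = Module.finrank (ZMod 3) V := by rw [fin8]; decide +kernel
theorem dimG : shG.dim = Module.finrank (ZMod 3) V := by rw [fin8]; decide +kernel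
theorem dimH : shH.dim = Module.finrank (ZMod 3) V := by rw [fin8]; decide +kernel
theorem dimI : shI.dim = Module.finrank (ZMod 3) V := by rw [fin8]; decide +kernel

/-- the types -/
inductive Ty | E1 | E2 | F1 | F2 | G1 | G2 | H | I
  deriving DecidableEq

/-- the models -/
def M : Ty → Typ Q
  | .E1 => ⟨LE1, shE, tE 1 1, pE1, pE1, skE1, okE, dimE, frE1, frE1'⟩
  | .E2 => ⟨LE2, shE, tE 2 2, pE2, pE2, skE2, okE, dimE, frE2, frE2'⟩
  | .F1 => ⟨LF1, shF, tF 1 1, pF1, pF1', skF1, okF, dimF, frF1, frF1'⟩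
  | .F2 => ⟨LF2, shF, tF 2 2, pF2, pF2', skF2, okF, dimF, frF2, frF2'⟩
  | .G1 => ⟨LG1, shG, tG 1 1, pG1, pG1, skG1, okG, dimG, frG1, frG1'⟩
  | .G2 => ⟨LG2, shG, tG 2 2, pG2, pG2, skG2, okG, dimG, frG2, frG2'⟩
  | .H => ⟨LH, shH, tH, pH, pH', skH, okH, dimH, frH, frH'⟩
  | .I => ⟨LI, shI, tI 1, pI, pI', skI, okI, dimI, frI, frI'⟩

/-- the images of the centralizers -/
def C : Ty → AA → Prop
  | .F1 => fun a => a = 1 ∨ a = (-1, 1)
  | .F2 => fun a => a = 1 ∨ a = (-1, -1)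
  | .H => fun a => a = 1
  | _ => fun _ => True

theorem cov (L : V →ₗ[ZMod 3] V) (hL : Sk Q L) (h0 : L ≠ 0) : ∃ t p, Fr Q L (M t).S (M t).τ p := by
  have h0' : ∃ w, L w ≠ 0 := by
    by_contra h
    push Not at h
    exact h0 (LinearMap.ext h)
  have hN : Nd Q (⊤ : Submodule (ZMod 3) V) := nd_top (nondeg_plusForm 4 (ZMod 3))
  rcases class8 hL hN fin8 h0' with ⟨c, d, p, h⟩ | ⟨c, d, p, h⟩ | ⟨c, d, p, h⟩ | ⟨p, h⟩ | ⟨d, p, h⟩
  · have h1 := disc hL skE1 okE h.fr frE1 dimE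
    have key : ∀ c d : ZMod 3, (∀ i, tE c d i ≠ 0) → ∏ i, tE c d i ^ shE.l i = ∏ i, tE 1 1 i ^ shE.l i →
        (c = 1 ∧ d = 1) ∨ (c = 2 ∧ d = 2) := by decide +kernel
    rcases key c d h.fr.ne h1 with ⟨rfl, rfl⟩ | ⟨rfl, rfl⟩
    · exact ⟨.E1, p, h.fr⟩
    · exact ⟨.E2, p, h.fr⟩
  · have h1 := disc hL skF1 okF h.fr frF1 dimF
    have key : ∀ c d : ZMod 3, (∀ i, tF c d i ≠ 0) → ∏ i, tF c d i ^ shF.l i = ∏ i, tF 1 1 i ^ shF.l i →
        (c = 1 ∧ d = 1) ∨ (c = 2 ∧ d = 2) := by decide +kernel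
    rcases key c d h.fr.ne h1 with ⟨rfl, rfl⟩ | ⟨rfl, rfl⟩
    · exact ⟨.F1, p, h.fr⟩
    · exact ⟨.F2, p, h.fr⟩
  · have h1 := disc hL skG1 okG h.fr frG1 dimG
    have key : ∀ c d : ZMod 3, (∀ i, tG c d i ≠ 0) → ∏ i, tG c d i ^ shG.l i = ∏ i, tG 1 1 i ^ shG.l i →
        (c = 1 ∧ d = 1) ∨ (c = 2 ∧ d = 2) := by decide +kernel
    rcases key c d h.fr.ne h1 with ⟨rfl, rfl⟩ | ⟨rfl, rfl⟩
    · exact ⟨.G1, p, h.fr⟩
    · exact ⟨.G2, p, h.fr⟩
  · exact ⟨.H, p, h.fr⟩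
  · have h1 := disc hL skI okI h.fr frI dimI
    have key : ∀ d : ZMod 3, (∀ i, tI d i ≠ 0) → ∏ i, tI d i ^ shI.l i = ∏ i, tI 1 i ^ shI.l i → d = 1 := by
      decide +kernel
    obtain rfl := key d h.fr.ne h1
    exact ⟨.I, p, h.fr⟩

/-- the vectors of the sign change of a block of length three -/
def blk (L : V →ₗ[ZMod 3] V) (a : V) : List V := [L a, a + L (L a), a - L (L a)]

set_option maxHeartbeats 1000000 in
theorem low (t : Ty) (a : AA) (h : C t a) : ∃ g, g * exO (M t).sk * g⁻¹ = exO (M t).sk ∧ dl Q g = a := by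
  cases t
  · exact full _ [e 2 - f 2] [e 2 - f 2 + (e 3 - f 3)] (by decide +kernel) (by decide +kernel) (by decide +kernel)
      (by decide +kernel) a
  · exact full _ [e 2 - f 2] [e 3 + f 3] (by decide +kernel) (by decide +kernel) (by decide +kernel)
      (by decide +kernel) a
  · exact half _ (blk LF1 (e 0)) (-1, 1) (by decide +kernel) (by decide +kernel) a h
  · exact half _ (blk LF2 (e 0)) (-1, -1) (by decide +kernel) (by decide +kernel) a h
  · exact full _ [e 1 - f 1] [e 1 + f 1] (by decide +kernel) (by decide +kernel) (by decide +kernel)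
      (by decide +kernel) a
  · exact full _ [e 1 - f 1] [e 1 + f 1] (by decide +kernel) (by decide +kernel) (by decide +kernel)
      (by decide +kernel) a
  · exact ⟨1, by rw [one_mul, inv_one, mul_one], by rw [map_one]; exact (show a = 1 from h).symm⟩
  · exact full _ [e 2 - f 2] [e 2 + f 2] (by decide +kernel) (by decide +kernel) (by decide +kernel)
      (by decide +kernel) a

/-- the rank of `L` -/
def R1 : Ty → ℕ
  | .E1 => 4 | .E2 => 4 | .F1 => 4 | .F2 => 4 | .G1 => 2 | .G2 => 2 | .H => 4 | .I => 2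

/-- the rank of `L²` -/
def R2 : Ty → ℕ
  | .E1 => 2 | .E2 => 2 | .F1 => 1 | .F2 => 1 | .G1 => 1 | .G2 => 1 | .H => 0 | .I => 0

theorem rk_one (t : Ty) : (M t).S.rk 1 = R1 t := by
  cases t
  · exact (by decide +kernel : shE.rk 1 = 4)
  · exact (by decide +kernel : shE.rk 1 = 4)
  · exact (by decide +kernel : shF.rk 1 = 4)
  · exact (by decide +kernel : shF.rk 1 = 4)
  · exact (by decide +kernel : shG.rk 1 = 2)
  · exact (by decide +kernel : shG.rk 1 = 2)
  · exact (by decide +kernel : shH.rk 1 = 4)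
  · exact (by decide +kernel : shI.rk 1 = 2)

theorem rk_two (t : Ty) : (M t).S.rk 2 = R2 t := by
  cases t
  · exact (by decide +kernel : shE.rk 2 = 2)
  · exact (by decide +kernel : shE.rk 2 = 2)
  · exact (by decide +kernel : shF.rk 2 = 1)
  · exact (by decide +kernel : shF.rk 2 = 1)
  · exact (by decide +kernel : shG.rk 2 = 1)
  · exact (by decide +kernel : shG.rk 2 = 1)
  · exact (by decide +kernel : shH.rk 2 = 0)
  · exact (by decide +kernel : shI.rk 2 = 0)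

theorem P3_E1 : ¬ P3 Q LE1 := not_P3 skE1 okE frE1 dimE (by decide +kernel) (by decide +kernel) ⟨0, by decide +kernel⟩
      ⟨1, by decide +kernel⟩ (by decide +kernel) (by decide +kernel) (by decide +kernel) (by decide +kernel)
      (by decide +kernel) (by decide +kernel)

theorem P3_E2 : P3 Q LE2 := ⟨e 0 + e 1, by decide +kernel, by decide +kernel⟩

theorem P2_F1 : ¬ P2 Q LF1 := not_P2 skF1 okF frF1 dimF (by decide +kernel) (by decide +kernel) ⟨0, by decide +kernel⟩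
      (by decide +kernel) (by decide +kernel) (by decide +kernel)

theorem P2_F2 : P2 Q LF2 := ⟨e 0, by decide +kernel⟩

theorem P2_G1 : ¬ P2 Q LG1 := not_P2 skG1 okG frG1 dimG (by decide +kernel) (by decide +kernel) ⟨0, by decide +kernel⟩
      (by decide +kernel) (by decide +kernel) (by decide +kernel)

theorem P2_G2 : P2 Q LG2 := ⟨e 0, by decide +kernel⟩

theorem key_sep (t t' : Ty) (h1 : R1 t = R1 t') (h2 : R2 t = R2 t') : t = t' ∨ (t = .E1 ∧ t' = .E2) ∨
    (t = .E2 ∧ t' = .E1) ∨ (t = .F1 ∧ t' = .F2) ∨ (t = .F2 ∧ t' = .F1) ∨ (t = .G1 ∧ t' = .G2) ∨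
    (t = .G2 ∧ t' = .G1) := by
  revert h1 h2
  cases t <;> cases t' <;> decide

theorem sep (t t' : Ty) (h1 : (M t).S.rk 1 = (M t').S.rk 1) (h2 : (M t).S.rk 2 = (M t').S.rk 2)
    (h3 : P2 Q (M t).L ↔ P2 Q (M t').L) (h4 : P3 Q (M t).L ↔ P3 Q (M t').L) : t = t' := by
  rw [rk_one, rk_one] at h1
  rw [rk_two, rk_two] at h2
  rcases key_sep t t' h1 h2 with h | ⟨rfl, rfl⟩ | ⟨rfl, rfl⟩ | ⟨rfl, rfl⟩ | ⟨rfl, rfl⟩ | ⟨rfl, rfl⟩ | ⟨rfl, rfl⟩
  · exact h
  · exact absurd (h4.2 P3_E2) P3_E1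
  · exact absurd (h4.1 P3_E2) P3_E1
  · exact absurd (h3.2 P2_F2) P2_F1
  · exact absurd (h3.1 P2_F2) P2_F1
  · exact absurd (h3.2 P2_G2) P2_G1
  · exact absurd (h3.1 P2_G2) P2_G1

/-! ### The split types -/

theorem good8 : Good Q := LieClassical.OrthFinite.good_of_finite (nondeg_plusForm 4 (ZMod 3)) (by
    rw [fin8]; omega)

theorem genF1 : Gen3 Q LF1 (e 0) (e 2) (e 1) (e 3 - f 3) where
  ca := by decide +kernel
  LLu := by decide +kernel
  LLw := by decide +kernel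
  Lz := by decide +kernel
  uw := by decide +kernel
  gen y := by
    obtain ⟨c, y', hy⟩ := Fr.gens skF1 okF frF1 dimF y
    refine ⟨c ⟨0, by decide +kernel⟩, c ⟨1, by decide +kernel⟩, c ⟨2, by decide +kernel⟩, c ⟨3, by decide +kernel⟩, y', ?_⟩
    rw [hy]
    congr 1
    show ∑ i : Fin 4, (c : Fin 4 → ZMod 3) i • (pF1 : Fin 4 → V) i = _
    rw [Fin.sum_univ_four]
    rfl
  hz := Or.inr (by decide +kernel)

theorem genF2 : Gen3 Q LF2 (e 0) (e 2) (e 1) (e 3 + f 3) where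
  ca := by decide +kernel
  LLu := by decide +kernel
  LLw := by decide +kernel
  Lz := by decide +kernel
  uw := by decide +kernel
  gen y := by
    obtain ⟨c, y', hy⟩ := Fr.gens skF2 okF frF2 dimF y
    refine ⟨c ⟨0, by decide +kernel⟩, c ⟨1, by decide +kernel⟩, c ⟨2, by decide +kernel⟩, c ⟨3, by decide +kernel⟩, y', ?_⟩
    rw [hy]
    congr 1
    show ∑ i : Fin 4, (c : Fin 4 → ZMod 3) i • (pF2 : Fin 4 → V) i = _
    rw [Fin.sum_univ_four]
    rfl
  hz := Or.inr (by decide +kernel)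

theorem genH : Gen4 Q LH (e 1) (e 0) (e 3) (e 2) where
  LL v := ext_basis (M := LH ∘ₗ LH) (M' := 0) (by decide +kernel) v
  uw := by decide +kernel
  uw' := by decide +kernel
  uu' := by decide +kernel
  uw'' := by decide +kernel
  wu' := by decide +kernel
  ww' := by decide +kernel
  gen y := by
    obtain ⟨c, y', hy⟩ := Fr.gens skH okH frH dimH y
    refine ⟨c ⟨0, by decide +kernel⟩, c ⟨1, by decide +kernel⟩, c ⟨2, by decide +kernel⟩, c ⟨3, by decide +kernel⟩, y', ?_⟩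
    rw [hy]
    congr 1
    show ∑ i : Fin 4, (c : Fin 4 → ZMod 3) i • (pH : Fin 4 → V) i = _
    rw [Fin.sum_univ_four]
    rfl

theorem cases_pow {a b : AA} {i j : ℕ} (h : a * b ^ i * b ^ j = 1) : a = 1 ∨ a = b := by
  rw [mul_assoc, ← pow_add] at h
  rcases Nat.even_or_odd' (i + j) with ⟨k, hk | hk⟩
  · left
    rw [hk, pow_mul, pow_two, AA_sq, one_pow, mul_one] at h
    exact h
  · right
    rw [hk, pow_succ, pow_mul, pow_two, AA_sq, one_pow, one_mul] at h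
    rw [← mul_one a, ← AA_sq b, ← mul_assoc, h, one_mul]

theorem upF1 (g : O Q) (hg : Cm LF1 (g : V ≃ₗ[ZMod 3] V)) : dl Q g = 1 ∨ dl Q g = (-1, 1) := by
  have hD : ∀ i, rfa Q (blk LF1 (e 0)) (LF1 (Pi.single i 1)) = LF1 (rfa Q (blk LF1 (e 0)) (Pi.single i 1)) := by
    decide +kernel
  have hR : ∀ i, rfa Q [e 3 - f 3] (LF1 (Pi.single i 1)) = LF1 (rfa Q [e 3 - f 3] (Pi.single i 1)) := by
    decide +kernel
  obtain ⟨T, hT, i, j, h⟩ := genF1.split skF1 (D := (rfs Q (blk LF1 (e 0)) : V ≃ₗ[ZMod 3] V))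
    (R := (rfs Q [e 3 - f 3] : V ≃ₗ[ZMod 3] V)) (rfs_comm hD)
    (by rw [rfs_apply]; decide +kernel) (by rw [rfs_apply]; decide +kernel) (by rw [rfs_apply]; decide +kernel)
    (by rw [rfs_apply]; decide +kernel) (rfs_comm hR) (by rw [rfs_apply]; decide +kernel)
    (by rw [rfs_apply]; decide +kernel) (by rw [rfs_apply]; decide +kernel) (by rw [rfs_apply]; decide +kernel) g.2 hg
  have h1 := nine_two good8 hT g (rfs Q (blk LF1 (e 0))) (rfs Q [e 3 - f 3]) h
  have h3 : dl Q (rfs Q (blk LF1 (e 0))) = (-1, 1) := by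
    rw [dl_rfs]; decide +kernel
  have h4 : dl Q (rfs Q [e 3 - f 3]) = (-1, 1) := by
    rw [dl_rfs]; decide +kernel
  rw [h3, h4] at h1
  exact cases_pow h1

theorem upF2 (g : O Q) (hg : Cm LF2 (g : V ≃ₗ[ZMod 3] V)) : dl Q g = 1 ∨ dl Q g = (-1, -1) := by
  have hD : ∀ i, rfa Q (blk LF2 (e 0)) (LF2 (Pi.single i 1)) = LF2 (rfa Q (blk LF2 (e 0)) (Pi.single i 1)) := by
    decide +kernel
  have hR : ∀ i, rfa Q [e 3 + f 3] (LF2 (Pi.single i 1)) = LF2 (rfa Q [e 3 + f 3] (Pi.single i 1)) := by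
    decide +kernel
  obtain ⟨T, hT, i, j, h⟩ := genF2.split skF2 (D := (rfs Q (blk LF2 (e 0)) : V ≃ₗ[ZMod 3] V))
    (R := (rfs Q [e 3 + f 3] : V ≃ₗ[ZMod 3] V)) (rfs_comm hD)
    (by rw [rfs_apply]; decide +kernel) (by rw [rfs_apply]; decide +kernel) (by rw [rfs_apply]; decide +kernel)
    (by rw [rfs_apply]; decide +kernel) (rfs_comm hR) (by rw [rfs_apply]; decide +kernel)
    (by rw [rfs_apply]; decide +kernel) (by rw [rfs_apply]; decide +kernel) (by rw [rfs_apply]; decide +kernel) g.2 hg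
  have h1 := nine_two good8 hT g (rfs Q (blk LF2 (e 0))) (rfs Q [e 3 + f 3]) h
  have h3 : dl Q (rfs Q (blk LF2 (e 0))) = (-1, -1) := by
    rw [dl_rfs]; decide +kernel
  have h4 : dl Q (rfs Q [e 3 + f 3]) = (-1, -1) := by
    rw [dl_rfs]; decide +kernel
  rw [h3, h4] at h1
  exact cases_pow h1

theorem upH (g : O Q) (hg : Cm LH (g : V ≃ₗ[ZMod 3] V)) : dl Q g = 1 := by
  obtain ⟨T, hT, h⟩ := genH.split skH g.2 hg
  exact nine_one good8 hT g h

theorem realF1 : ∃ g, g * exO (M .F1).sk * g⁻¹ = (exO (M .F1).sk)⁻¹ ∧ C .F1 (dl Q g) := by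
  refine ⟨rfs Q [LF1 (e 0), e 2 + LF1 (e 1), e 2 - LF1 (e 1)], real_of skF1 _ (by decide +kernel), Or.inr ?_⟩
  rw [dl_rfs]
  decide +kernel

theorem realF2 : ∃ g, g * exO (M .F2).sk * g⁻¹ = (exO (M .F2).sk)⁻¹ ∧ C .F2 (dl Q g) := by
  refine ⟨rfs Q [LF2 (e 0), e 2 + LF2 (e 1), e 2 - LF2 (e 1)], real_of skF2 _ (by decide +kernel), Or.inr ?_⟩
  rw [dl_rfs]
  decide +kernel

theorem realH : ∃ g, g * exO (M .H).sk * g⁻¹ = (exO (M .H).sk)⁻¹ ∧ C .H (dl Q g) := by
  refine ⟨rfs Q [e 1 + LH (e 0), e 1 - LH (e 0), e 3 + LH (e 2), e 3 - LH (e 2)], real_of skH _ (by decide +kernel), ?_⟩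
  show dl Q _ = 1
  rw [dl_rfs]
  decide +kernel

/-- **The data in dimension eight.** -/
theorem dat8 : Assem.Dat (dl Q) (fun t => exO (M t).sk) C := by
  refine dat M C ?_ cov low ?_ ?_ sep
  · intro t
    rw [rk_one]
    cases t <;> decide
  · intro t g hg
    cases t
    case F1 => exact upF1 g hg
    case F2 => exact upF2 g hg
    case H => exact upH g hg
    all_goals trivial
  · intro t
    cases t
    case F1 => exact Or.inr realF1
    case F2 => exact Or.inr realF2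
    case H => exact Or.inr realH
    all_goals exact Or.inl fun _ => trivial

/-! ### The indices -/

def ti : Fin 13 → Ty := ![.E1, .E2, .G1, .G2, .I, .F1, .F1, .F2, .F2, .H, .H, .H, .H]

/-- coset representatives -/
noncomputable def ra : AA → O Q := fun a => if a = 1 then 1 else if a = (-1, 1) then rfs Q [e 0 - f 0] else
  if a = (-1, -1) then rfs Q [e 0 + f 0] else rfs Q [e 0 - f 0, e 0 + f 0]

theorem dl_ra (a : AA) : dl Q (ra a) = a := by
  rw [ra]
  split_ifs with h1 h2 h3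
  · rw [map_one, h1]
  · rw [dl_rfs, h2]; decide +kernel
  · rw [dl_rfs, h3]; decide +kernel
  · rw [dl_rfs]
    rcases AA_cases a with h | h | h | h
    · exact absurd h h1
    · exact absurd h h2
    · exact absurd h h3
    · rw [h]; decide +kernel

def di : Fin 13 → AA := ![1, 1, 1, 1, 1, 1, (1, -1), 1, (1, -1), 1, (-1, 1), (-1, -1), (1, -1)]

noncomputable def ri (i : Fin 13) : O Q := ra (di i)

theorem dl_ri (i : Fin 13) : dl Q (ri i) = di i := dl_ra _

instance decC (t : Ty) (a : AA) : Decidable (C t a) := by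
  cases t <;> (simp only [C]; infer_instance)

theorem idx8 : Assem.Idx (dl Q) C ti ri where
  inj i j h1 h2 := by
    rw [dl_ri, dl_ri] at h2
    revert i j
    decide +kernel
  surj s a := by
    have h : ∀ (a : AA) (s : Ty), ∃ i, ti i = s ∧ C s (a * di i) := by
      intro a s
      cases s <;> revert a <;> decide +kernel
    obtain ⟨i, h1, h2⟩ := h a s
    exact ⟨i, h1, by rw [dl_ri]; exact h2⟩

/-- **The classes of subgroups of order three of `PΩ₈⁺(3)`.** -/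
theorem classes : ∃ Y : Fin 13 → Subgroup (Cfsg.POmega (ZMod 3) (Cfsg.quadFormPlus 4 (ZMod 3))),
    (∀ i, Nat.card (Y i) = 3) ∧
    (∀ i j, (∃ g : Cfsg.POmega (ZMod 3) (Cfsg.quadFormPlus 4 (ZMod 3)),
      (Y i).map (MulAut.conj g).toMonoidHom = Y j) → i = j) ∧
    (∀ X : Subgroup (Cfsg.POmega (ZMod 3) (Cfsg.quadFormPlus 4 (ZMod 3))), Nat.card X = 3 →
      ∃ i, ∃ g : Cfsg.POmega (ZMod 3) (Cfsg.quadFormPlus 4 (ZMod 3)),
        X.map (MulAut.conj g).toMonoidHom = Y i) := by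
  rw [← coe_plusForm]
  have hz := ker_center good8
  exact Assem.transfer (ppEquiv good8) (Assem.YY dat8 ti ri) 3 (Assem.YY_card dat8 hz)
    (fun i j h => Assem.YY_sep dat8 idx8 hz i j h) (fun X hX => Assem.YY_cov dat8 idx8 X hX hz)

end Cfsg.Agent.H844.Dim8
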