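import Mathlib
import Cfsg.Agent.H844.Dim8
import Cfsg.Agent.H844.ClsAct

/-!
# `PΩ₈⁺(3) : S₃`: the orbits on the subgroups of order three (helper844)
-/

set_option autoImplicit false
set_option linter.unusedSectionVars false

namespace Cfsg.Agent.H844.Dim8

open QuadraticMap Cfsg.Agent.LieClassical.OrthCore Cfsg.Agent.LieClassical.OrthTrans
  Cfsg.Agent.LieClassical.OrthForms Cfsg.Agent.H844.Unip Subgroup Equiv

/-- the model group -/
abbrev K : Type := Assem.PP (dl Q)

theorem card_one : (Finset.univ.filter fun i => C (ti i) (-1, -1)).card = 7 := by decide +kernel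
theorem card_two : (Finset.univ.filter fun i => C (ti i) (-1, 1)).card = 7 := by decide +kernel
theorem card_three : (Finset.univ.filter fun i => C (ti i) ((-1, -1) * (-1, 1))).card = 5 := by decide +kernel
theorem imp : ∀ i, C (ti i) ((-1, -1) * (-1, 1)) → C (ti i) (-1, -1) := by decide +kernel

/-- **The orbits.** -/
theorem orbits {G : Type*} [Group G] (L : Subgroup G) [L.Normal] (f : L ≃* K)
    (hc : centralizer (L : Set G) ≤ L) (hz : center K = ⊥)
    (e : Cfsg.Out K ≃* Perm (Fin 4)) (hq : Nat.card (G ⧸ L) = 6) :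
    ∃ Z : Fin 7 → Subgroup G, (∀ i, Z i ≤ L ∧ Nat.card (Z i) = 3) ∧
      (∀ i j, (∃ g : G, (Z i).map (MulAut.conj g).toMonoidHom = Z j) → i = j) ∧
      ∀ X : Subgroup G, X ≤ L → Nat.card X = 3 → ∃ i, ∃ g : G, X.map (MulAut.conj g).toMonoidHom = Z i :=
  ClsAct.orbits_dat dat8 idx8 (ker_center good8) rfl (ra (-1, -1)) (ra (-1, 1))
    (by rw [dl_ra]; exact card_one) (by rw [dl_ra]; exact card_two) (by rw [dl_ra, dl_ra]; exact card_three)
    (by rw [dl_ra, dl_ra]; exact imp) L f hc hz e hq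

end Cfsg.Agent.H844.Dim8
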