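import Mathlib
import Cfsg.Agent.H844.AutEmb

/-!
# An action of the symmetric group of degree four on 13 points (helper844)
-/

set_option autoImplicit false

namespace Cfsg.Agent.H844.SFour

open Equiv

/-- the conjugacy class -/
def cl (g : Perm (Fin 4)) : Fin 5 :=
  if (Finset.univ.filter fun i => g i = i).card = 4 then 0
  else if (Finset.univ.filter fun i => g i = i).card = 2 then 1
  else if (Finset.univ.filter fun i => g i = i).card = 1 then 3
  else if g * g = 1 then 2 else 4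

/-- representatives -/
def rp : Fin 5 → Perm (Fin 4) := ![1, swap 0 1, swap 0 1 * swap 2 3, swap 0 1 * swap 1 2, finRotate 4]

theorem rp_conj : ∀ g : Perm (Fin 4), ∃ h : Perm (Fin 4), g = h * rp (cl g) * h⁻¹ := by decide +kernel

variable {X : Type} [Fintype X] [DecidableEq X] (φ : Perm (Fin 4) →* Perm X)

/-- the fixed points -/
def fx (g : Perm (Fin 4)) : Finset X := Finset.univ.filter fun x => φ g x = x

variable {φ}

theorem mem_fx {g : Perm (Fin 4)} {x : X} : x ∈ fx φ g ↔ φ g x = x := by simp [fx]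

theorem fx_conj (g h : Perm (Fin 4)) : fx φ (h * g * h⁻¹) = (fx φ g).image (φ h) := by
  ext x
  rw [Finset.mem_image, mem_fx]
  constructor
  · intro hx
    refine ⟨(φ h)⁻¹ x, ?_, by simp⟩
    rw [mem_fx]
    rw [map_mul, map_mul, map_inv, Perm.mul_apply, Perm.mul_apply] at hx
    exact (φ h).injective (by rw [hx]; simp)
  · rintro ⟨y, hy, rfl⟩
    rw [mem_fx] at hy
    rw [map_mul, map_mul, map_inv, Perm.mul_apply, Perm.mul_apply, Perm.inv_eq_iff_eq.2 rfl, hy]

theorem card_conj (g h : Perm (Fin 4)) : (fx φ (h * g * h⁻¹)).card = (fx φ g).card := by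
  rw [fx_conj, Finset.card_image_of_injective _ (φ h).injective]

theorem card_cl (g : Perm (Fin 4)) : (fx φ g).card = (fx φ (rp (cl g))).card := by
  obtain ⟨h, hh⟩ := rp_conj g
  conv_lhs => rw [hh]
  rw [card_conj]

/-- Burnside, with representatives -/
theorem burnside (φ : Perm (Fin 4) →* Perm X) (H : Subgroup (Perm (Fin 4))) [DecidablePred (· ∈ H)] :
    ∃ N : ℕ, N * (Finset.univ.filter (· ∈ H)).card = ∑ g ∈ Finset.univ.filter (· ∈ H), (fx φ g).card ∧
      ∃ ρ : Fin N → X, (∀ k l, (∃ h ∈ H, φ h (ρ k) = ρ l) → k = l) ∧ ∀ x, ∃ k, ∃ h ∈ H, φ h x = ρ k := by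
  classical
  let _ : MulAction H X := MulAction.compHom X (φ.comp H.subtype)
  have hs : ∀ (h : H) (x : X), h • x = φ (h : Perm (Fin 4)) x := fun _ _ => rfl
  let _ : Fintype (Quotient (MulAction.orbitRel H X)) := Fintype.ofFinite _
  have h1 := MulAction.sum_card_fixedBy_eq_card_orbits_mul_card_group (G := H) (X := X)
  refine ⟨Fintype.card (Quotient (MulAction.orbitRel H X)), ?_, ?_⟩
  · have h2 : Fintype.card H = (Finset.univ.filter (· ∈ H)).card := Fintype.card_subtype _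
    rw [← h2]
    rw [Finset.sum_subtype (Finset.univ.filter (· ∈ H)) (p := (· ∈ H)) (by simp)]
    refine Eq.trans h1.symm (Finset.sum_congr rfl fun a _ => ?_)
    rw [fx, ← Fintype.card_subtype]
    apply Fintype.card_congr
    exact Equiv.refl _
  · let ε := (Fintype.equivFin (Quotient (MulAction.orbitRel H X))).symm
    refine ⟨fun k => (ε k).out, ?_, ?_⟩
    · rintro k l ⟨h, hh, hkl⟩
      apply ε.injective
      have h3 : (MulAction.orbitRel H X) (ε l).out (ε k).out := ⟨⟨h, hh⟩, hkl⟩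
      have h4 := Quotient.sound h3
      rw [Quotient.out_eq, Quotient.out_eq] at h4
      exact h4.symm
    · intro x
      refine ⟨ε.symm (Quotient.mk _ x), ?_⟩
      have h3 : (MulAction.orbitRel H X) (Quotient.mk (MulAction.orbitRel H X) x).out x :=
        Quotient.exact (Quotient.out_eq _)
      obtain ⟨h, hh⟩ := h3
      refine ⟨h, h.2, ?_⟩
      show _ = (ε (ε.symm _)).out
      rw [ε.apply_symm_apply]
      exact hh

/-- the sum over a subgroup of a class function -/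
theorem sum_cl (P : Perm (Fin 4) → Prop) [DecidablePred P] (w : Fin 5 → ℕ)
    (hw : ∀ g, (fx φ g).card = w (cl g)) :
    ∑ g ∈ Finset.univ.filter P, (fx φ g).card
      = ∑ k, (Finset.univ.filter fun g => P g ∧ cl g = k).card * w k := by
  rw [← Finset.sum_fiberwise (Finset.univ.filter P) cl]
  apply Finset.sum_congr rfl
  intro k _
  rw [Finset.filter_filter, Finset.sum_congr rfl (g := fun _ => w k), Finset.sum_const, smul_eq_mul]
  intro g hg
  rw [hw, (Finset.mem_filter.1 hg).2.2]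

/-- the dihedral group -/
def D8 : Subgroup (Perm (Fin 4)) where
  carrier := {g | g * (swap 0 2 * swap 1 3) = (swap 0 2 * swap 1 3) * g}
  mul_mem' {a b} ha hb := by
    show a * b * _ = _ * (a * b)
    rw [mul_assoc, show b * _ = _ * b from hb, ← mul_assoc, show a * _ = _ * a from ha, mul_assoc]
  one_mem' := by
    show 1 * _ = _ * 1
    rw [one_mul, mul_one]
  inv_mem' {a} ha := by
    show a⁻¹ * _ = _ * a⁻¹
    rw [inv_mul_eq_iff_eq_mul, ← mul_assoc, show a * _ = _ * a from ha, mul_inv_cancel_right]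

instance decD8 : DecidablePred (· ∈ D8) := fun g =>
  inferInstanceAs (Decidable (g * (swap 0 2 * swap 1 3) = (swap 0 2 * swap 1 3) * g))

instance decStab (i : Fin 4) : DecidablePred (· ∈ AutEmb.stab i) := fun g =>
  inferInstanceAs (Decidable (g i = i))

theorem cards_D8 : (Finset.univ.filter (· ∈ D8)).card = 8 ∧
    ∀ k, (Finset.univ.filter fun g => g ∈ D8 ∧ cl g = k).card = (![1, 2, 3, 0, 2] : Fin 5 → ℕ) k := by
  decide +kernel

theorem cards_stab : ∀ i : Fin 4, (Finset.univ.filter (· ∈ AutEmb.stab i)).card = 6 ∧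
    ∀ k, (Finset.univ.filter fun g => g ∈ AutEmb.stab i ∧ cl g = k).card = (![1, 3, 0, 2, 0] : Fin 5 → ℕ) k := by
  decide +kernel

/-- the type of two commuting involutions -/
theorem key_pair (a b : ℕ) (hab : a ≠ b) (w : Fin 5 → ℕ) : ∀ s s' : Perm (Fin 4), s * s = 1 → s' * s' = 1 →
    s * s' = s' * s → s ≠ 1 → s' ≠ 1 → s ≠ s' → w (cl s) = a → w (cl s') = a → w (cl (s * s')) = b →
    w 1 = a ∧ w 2 = b ∧ cl s = 1 ∧ cl s' = 1 := by
  have h : ∀ s s' : Perm (Fin 4), (s * s = 1 ∧ s' * s' = 1 ∧ s * s' = s' * s ∧ s ≠ 1 ∧ s' ≠ 1 ∧ s ≠ s') →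
    ((cl s = 1 ∧ cl s' = 1 ∧ cl (s * s') = 2) ∨ (cl s = 1 ∧ cl s' = 2 ∧ cl (s * s') = 1) ∨
    (cl s = 2 ∧ cl s' = 1 ∧ cl (s * s') = 1) ∨ (cl s = 2 ∧ cl s' = 2 ∧ cl (s * s') = 2)) := by decide +kernel
  intro s s' h1 h2 h3 h4 h5 h6 h7 h8 h9
  rcases h s s' ⟨h1, h2, h3, h4, h5, h6⟩ with ⟨e1, e2, e3⟩ | ⟨e1, e2, e3⟩ | ⟨e1, e2, e3⟩ | ⟨e1, e2, e3⟩
  · rw [e1] at h7
    rw [e3] at h9
    exact ⟨h7, h9, e1, e2⟩
  · rw [e1] at h7
    rw [e3] at h9
    exact absurd (h7.symm.trans h9) hab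
  · rw [e2] at h8
    rw [e3] at h9
    exact absurd (h8.symm.trans h9) hab
  · rw [e1] at h7
    rw [e3] at h9
    exact absurd (h7.symm.trans h9) hab

theorem conj_pair : ∀ s s' : Perm (Fin 4), (cl s = 1 ∧ cl s' = 1 ∧ s * s' = s' * s ∧ s ≠ s') →
    ∃ h : Perm (Fin 4), swap 0 2 = h * s * h⁻¹ ∧ swap 1 3 = h * s' * h⁻¹ := by decide +kernel

theorem finRotate_sq : finRotate 4 * finRotate 4 = swap 0 2 * swap 1 3 := by decide +kernel

theorem fx_mul {g h : Perm (Fin 4)} {x : X} (h1 : x ∈ fx φ g) (h2 : x ∈ fx φ h) : x ∈ fx φ (g * h) := by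
  rw [mem_fx] at *
  rw [map_mul, Perm.mul_apply, h2, h1]

theorem fx_inv {g : Perm (Fin 4)} {x : X} (h1 : x ∈ fx φ g) : x ∈ fx φ g⁻¹ := by
  rw [mem_fx] at *
  rw [map_inv, Perm.inv_eq_iff_eq, h1]

section main

variable (H0 : ∀ h : Perm (Fin 4), fx φ (h * (swap 0 2 * swap 1 3) * h⁻¹) ⊆ fx φ (h * swap 0 2 * h⁻¹))

include H0

theorem fx_all {x : X} (h1 : x ∈ fx φ (finRotate 4)) (g : Perm (Fin 4)) : x ∈ fx φ g := by
  have h2 : x ∈ fx φ (swap 3 (finRotate 4 3)) := by
    have h3 : x ∈ fx φ (swap 0 2) := by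
      have h4 : x ∈ fx φ (1 * (swap 0 2 * swap 1 3) * 1⁻¹) := by
        rw [one_mul, inv_one, mul_one, ← finRotate_sq]
        exact fx_mul h1 h1
      have h5 := H0 1 h4
      rwa [one_mul, inv_one, mul_one] at h5
    have h6 : x ∈ fx φ (swap 2 3 * (swap 0 2 * swap 1 3) * (swap 2 3)⁻¹) := by
      have e : (swap 2 3 * (swap 0 2 * swap 1 3) * (swap 2 3)⁻¹ : Perm (Fin 4)) = finRotate 4 * swap 0 2 := by
        decide +kernel
      rw [e]
      exact fx_mul h1 h3
    have h7 := H0 (swap 2 3) h6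
    have e : (swap 2 3 * swap 0 2 * (swap 2 3)⁻¹ : Perm (Fin 4)) = swap 3 (finRotate 4 3) := by decide +kernel
    rwa [e] at h7
  have h3 : Subgroup.closure ({finRotate 4, swap 3 (finRotate 4 3)} : Set (Perm (Fin 4))) = ⊤ :=
    Equiv.Perm.closure_cycle_adjacent_swap isCycle_finRotate support_finRotate 3
  have h4 : Subgroup.closure ({finRotate 4, swap 3 (finRotate 4 3)} : Set (Perm (Fin 4))) ≤
      (MulAction.stabilizer (Perm X) x).comap φ := by
    rw [Subgroup.closure_le]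
    rintro g (rfl | rfl)
    · exact mem_fx.1 h1
    · exact mem_fx.1 h2
  rw [h3] at h4
  exact mem_fx.2 (h4 (Subgroup.mem_top g))

theorem fx_two {x : X} (h1 : x ∈ fx φ (swap 0 2 * swap 1 3)) (h2 : x ∈ fx φ (swap 0 1 * swap 2 3)) :
    x ∈ fx φ (finRotate 4) := by
  have a1 : x ∈ fx φ (swap 0 2) := by
    have h5 := H0 1 (by rw [one_mul, inv_one, mul_one]; exact h1)
    rwa [one_mul, inv_one, mul_one] at h5
  have a2 : x ∈ fx φ (swap 1 3) := by
    have e : (swap 0 2 * (swap 0 2 * swap 1 3) : Perm (Fin 4)) = swap 1 3 := by decide +kernel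
    rw [← e]
    exact fx_mul a1 h1
  have a3 : x ∈ fx φ (swap 0 1) := by
    have e : (swap 1 2 * (swap 0 2 * swap 1 3) * (swap 1 2)⁻¹ : Perm (Fin 4)) = swap 0 1 * swap 2 3 := by
      decide +kernel
    have h5 := H0 (swap 1 2) (by rw [e]; exact h2)
    have e' : (swap 1 2 * swap 0 2 * (swap 1 2)⁻¹ : Perm (Fin 4)) = swap 0 1 := by decide +kernel
    rwa [e'] at h5
  have e : (finRotate 4 : Perm (Fin 4)) = swap 0 1 * (swap 0 2 * swap 0 1 * swap 0 2) * ((swap 0 1 * swap 2 3) * swap 0 1) := by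
    decide +kernel
  rw [e]
  exact fx_mul (fx_mul a3 (fx_mul (fx_mul a1 a3) a1)) (fx_mul h2 a3)

theorem count (hX : Fintype.card X = 13) (h1 : (fx φ (swap 0 1)).card = 7)
    (h2 : (fx φ (swap 0 1 * swap 2 3)).card = 5) (i : Fin 4) :
    ∃ ρ : Fin 7 → X, (∀ k l, (∃ h ∈ AutEmb.stab i, φ h (ρ k) = ρ l) → k = l) ∧
      ∀ x, ∃ k, ∃ h ∈ AutEmb.stab i, φ h x = ρ k := by
  set d := (fx φ (finRotate 4)).card with hd
  set c := (fx φ (swap 0 1 * swap 1 2)).card with hc
  have hw : ∀ g, (fx φ g).card = (![13, 7, 5, c, d] : Fin 5 → ℕ) (cl g) := by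
    intro g
    rw [card_cl]
    generalize cl g = k
    fin_cases k
    · show (fx φ 1).card = 13
      rw [← hX, fx, map_one]
      simp
    · exact h1
    · exact h2
    · rfl
    · rfl
  have e5 : ∀ w : Fin 5 → ℕ, ∑ k, w k = w 0 + w 1 + w 2 + w 3 + w 4 := fun w => Fin.sum_univ_five w
  -- the dihedral group
  have hd3 : d = 3 := by
    obtain ⟨N, hN, -⟩ := burnside φ D8
    rw [sum_cl _ _ hw, cards_D8.1, e5] at hN
    simp only [cards_D8.2] at hN
    have hN' : N * 8 = 1 * 13 + 2 * 7 + 3 * 5 + 0 * c + 2 * d := hN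
    have h3 : fx φ (finRotate 4) ⊆ fx φ (swap 0 1 * swap 2 3) := fun x hx => fx_all H0 hx _
    have h4 := Finset.card_le_card h3
    rw [h2] at h4
    omega
  set F := fx φ (finRotate 4) with hF
  have hFg : ∀ g, F ⊆ fx φ g := fun g x hx => fx_all H0 hx g
  -- the three involutions
  set v1 : Perm (Fin 4) := swap 0 1 * swap 2 3 with hv1
  set v2 : Perm (Fin 4) := swap 0 2 * swap 1 3 with hv2
  set v3 : Perm (Fin 4) := swap 0 3 * swap 1 2 with hv3
  have e12 : v1 * v2 = v3 := by rw [hv1, hv2, hv3]; decide +kernel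
  have e13 : v1 * v3 = v2 := by rw [hv1, hv2, hv3]; decide +kernel
  have e23 : v2 * v3 = v1 := by rw [hv1, hv2, hv3]; decide +kernel
  have c2 : (fx φ v2).card = 5 := by rw [hw, show cl v2 = 2 by rw [hv2]; decide +kernel]; rfl
  have c3 : (fx φ v3).card = 5 := by rw [hw, show cl v3 = 2 by rw [hv3]; decide +kernel]; rfl
  have i12 : ∀ x, x ∈ fx φ v1 → x ∈ fx φ v2 → x ∈ F := fun x h h' => fx_two H0 h' h
  have i13 : ∀ x, x ∈ fx φ v1 → x ∈ fx φ v3 → x ∈ F := fun x h h' => i12 x h (by rw [← e13]; exact fx_mul h h')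
  have i23 : ∀ x, x ∈ fx φ v2 → x ∈ fx φ v3 → x ∈ F := fun x h h' => i12 x (by rw [← e23]; exact fx_mul h h') h
  -- three-cycles
  have key : ∀ t : Perm (Fin 4), t * v1 * t⁻¹ = v2 → t * v2 * t⁻¹ = v3 → t * v3 * t⁻¹ = v1 →
      (∀ x, x ∈ fx φ t → x ∈ fx φ v1 ∨ x ∈ fx φ v2 ∨ x ∈ fx φ v3 → x ∈ F) ∧
      ((fx φ t) ∪ ((fx φ v1 \ F) ∪ ((fx φ v2 \ F) ∪ (fx φ v3 \ F)))).card = (fx φ t).card + 6 := by
    intro t t1 t2 t3
    have hA : ∀ x, x ∈ fx φ t → x ∈ fx φ v1 ∨ x ∈ fx φ v2 ∨ x ∈ fx φ v3 → x ∈ F := by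
      intro x hx h
      rcases h with h | h | h
      · exact i12 x h (by rw [← t1]; exact fx_mul (fx_mul hx h) (fx_inv hx))
      · exact i23 x h (by rw [← t2]; exact fx_mul (fx_mul hx h) (fx_inv hx))
      · exact i13 x (by rw [← t3]; exact fx_mul (fx_mul hx h) (fx_inv hx)) h
    refine ⟨hA, ?_⟩
    have d1 : (fx φ v1 \ F).card = 2 := by rw [Finset.card_sdiff_of_subset (hFg _)]; omega
    have d2 : (fx φ v2 \ F).card = 2 := by rw [Finset.card_sdiff_of_subset (hFg _)]; omega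
    have d3 : (fx φ v3 \ F).card = 2 := by rw [Finset.card_sdiff_of_subset (hFg _)]; omega
    rw [Finset.card_union_of_disjoint, Finset.card_union_of_disjoint, Finset.card_union_of_disjoint, d1, d2, d3]
    · rw [Finset.disjoint_left]
      intro x hx hx'
      rw [Finset.mem_sdiff] at hx hx'
      exact hx.2 (i23 x hx.1 hx'.1)
    · rw [Finset.disjoint_left]
      intro x hx hx'
      rw [Finset.mem_union, Finset.mem_sdiff, Finset.mem_sdiff] at hx'
      rw [Finset.mem_sdiff] at hx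
      rcases hx' with hx' | hx'
      · exact hx.2 (i12 x hx.1 hx'.1)
      · exact hx.2 (i13 x hx.1 hx'.1)
    · rw [Finset.disjoint_left]
      intro x hx hx'
      rw [Finset.mem_union, Finset.mem_union, Finset.mem_sdiff, Finset.mem_sdiff, Finset.mem_sdiff] at hx'
      rcases hx' with hx' | hx' | hx'
      · exact hx'.2 (hA x hx (Or.inl hx'.1))
      · exact hx'.2 (hA x hx (Or.inr (Or.inl hx'.1)))
      · exact hx'.2 (hA x hx (Or.inr (Or.inr hx'.1)))
  obtain ⟨N, hN, ρ, hρ⟩ := burnside φ (AutEmb.stab i)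
  rw [sum_cl _ _ hw, (cards_stab i).1, e5] at hN
  simp only [(cards_stab i).2] at hN
  have hN' : N * 6 = 1 * 13 + 3 * 7 + 0 * 5 + 2 * c + 0 * d := hN
  set t : Perm (Fin 4) := swap 1 2 * swap 2 3 with ht
  obtain ⟨k1, k2⟩ := key t (by rw [ht, hv1, hv2]; decide +kernel) (by rw [ht, hv2, hv3]; decide +kernel)
    (by rw [ht, hv3, hv1]; decide +kernel)
  obtain ⟨m1, m2⟩ := key (t * v1) (by rw [ht, hv1, hv2]; decide +kernel) (by rw [ht, hv1, hv2, hv3]; decide +kernel)
    (by rw [ht, hv3, hv1]; decide +kernel)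
  have tc : (fx φ t).card = c := by rw [hw, show cl t = 3 by rw [ht]; decide +kernel]; rfl
  have tc' : (fx φ (t * v1)).card = c := by rw [hw, show cl (t * v1) = 3 by rw [ht, hv1]; decide +kernel]; rfl
  have hc3 : 3 ≤ c := by
    have := Finset.card_le_card (hFg t)
    omega
  have hle : c + 6 ≤ 13 := by
    rw [← hX, ← tc, ← k2]
    exact Finset.card_le_univ _
  have hne : c ≠ 7 := by
    intro h7
    rw [tc, h7] at k2
    rw [tc', h7] at m2
    have u1 := (Finset.card_eq_iff_eq_univ _).1 (k2.trans hX.symm)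
    have u2 := (Finset.card_eq_iff_eq_univ _).1 (m2.trans hX.symm)
    have hall : ∀ x, x ∈ fx φ v1 ∪ (fx φ v2 ∪ fx φ v3) := by
      intro x
      by_contra hx
      rw [Finset.mem_union, Finset.mem_union, not_or, not_or] at hx
      have hx1 : x ∈ fx φ t := by
        have : x ∈ (Finset.univ : Finset X) := Finset.mem_univ _
        rw [← u1] at this
        simp only [Finset.mem_union, Finset.mem_sdiff] at this
        rcases this with h | h | h | h
        · exact h
        · exact absurd h.1 hx.1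
        · exact absurd h.1 hx.2.1
        · exact absurd h.1 hx.2.2
      have hx2 : x ∈ fx φ (t * v1) := by
        have : x ∈ (Finset.univ : Finset X) := Finset.mem_univ _
        rw [← u2] at this
        simp only [Finset.mem_union, Finset.mem_sdiff] at this
        rcases this with h | h | h | h
        · exact h
        · exact absurd h.1 hx.1
        · exact absurd h.1 hx.2.1
        · exact absurd h.1 hx.2.2
      apply hx.1
      have e : v1 = t⁻¹ * (t * v1) := by group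
      rw [e]
      exact fx_mul (fx_inv hx1) hx2
    have h8 : fx φ v1 ∪ (fx φ v2 ∪ fx φ v3) = Finset.univ := Finset.eq_univ_iff_forall.2 hall
    have h9 : fx φ v1 ∪ (fx φ v2 ∪ fx φ v3) ⊆ F ∪ ((fx φ v1 \ F) ∪ ((fx φ v2 \ F) ∪ (fx φ v3 \ F))) := by
      intro x hx
      simp only [Finset.mem_union, Finset.mem_sdiff] at hx ⊢
      tauto
    have h10 := Finset.card_le_card h9
    rw [h8, Finset.card_univ, hX] at h10
    have d1 : (fx φ v1 \ F).card = 2 := by rw [Finset.card_sdiff_of_subset (hFg _)]; omega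
    have d2 : (fx φ v2 \ F).card = 2 := by rw [Finset.card_sdiff_of_subset (hFg _)]; omega
    have d3 : (fx φ v3 \ F).card = 2 := by rw [Finset.card_sdiff_of_subset (hFg _)]; omega
    have l1 := Finset.card_union_le F ((fx φ v1 \ F) ∪ ((fx φ v2 \ F) ∪ (fx φ v3 \ F)))
    have l2 := Finset.card_union_le (fx φ v1 \ F) ((fx φ v2 \ F) ∪ (fx φ v3 \ F))
    have l3 := Finset.card_union_le (fx φ v2 \ F) (fx φ v3 \ F)
    omega
  have hN7 : N = 7 := by omega
  subst hN7
  exact ⟨ρ, hρ⟩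

end main

/-- **The count.** -/
theorem count' (hX : Fintype.card X = 13) {s s' : Perm (Fin 4)} (h1 : s * s = 1) (h2 : s' * s' = 1)
    (h3 : s * s' = s' * s) (n1 : (fx φ s).card = 7) (n2 : (fx φ s').card = 7) (n3 : (fx φ (s * s')).card = 5)
    (hs : fx φ (s * s') ⊆ fx φ s) (i : Fin 4) :
    ∃ ρ : Fin 7 → X, (∀ k l, (∃ h ∈ AutEmb.stab i, φ h (ρ k) = ρ l) → k = l) ∧
      ∀ x, ∃ k, ∃ h ∈ AutEmb.stab i, φ h x = ρ k := by
  have n0 : (fx φ 1).card = 13 := by
    rw [← hX, fx, map_one]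
    simp
  have e1 : s ≠ 1 := by
    rintro rfl
    omega
  have e2 : s' ≠ 1 := by
    rintro rfl
    omega
  have e3 : s ≠ s' := by
    rintro rfl
    rw [h1] at n3
    omega
  obtain ⟨w1, w2, c1, c2⟩ := key_pair 7 5 (by norm_num) (fun k => (fx φ (rp k)).card) s s' h1 h2 h3 e1 e2 e3
    (by rw [← card_cl, n1]) (by rw [← card_cl, n2]) (by rw [← card_cl, n3])
  obtain ⟨h, hh, hh'⟩ := conj_pair s s' ⟨c1, c2, h3, e3⟩
  refine count ?_ hX w1 w2 i
  intro k
  have e4 : k * (swap 0 2 * swap 1 3) * k⁻¹ = (k * h) * (s * s') * (k * h)⁻¹ := by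
    rw [hh, hh']; group
  have e5 : k * swap 0 2 * k⁻¹ = (k * h) * s * (k * h)⁻¹ := by
    rw [hh]; group
  rw [e4, e5, fx_conj, fx_conj]
  exact Finset.image_subset_image hs

end Cfsg.Agent.H844.SFour
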