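import Mathlib
import Cfsg.Agent.LieClassical.OrthFinite

/-!
# Isometries of order three of quadratic spaces over `F₃` (helper844), I: logarithm and frames

`V` a quadratic space over `F₃`. An isometry `x` with `x³ = 1` is `1 + L - L²` with `L = x² - x` skew, `L³ = 0`.

* `Sk Q L` : `L` is skew and `L³ = 0`; `lg`, `ex` : logarithm and exponential; `lg_ex`, `ex_lg`;
* `Shp` : a shape (block lengths and pairing of the generators), `Fr Q L S τ p` : the generators `p` form a frame
  of shape `S` with pairing values `τ`;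
* `exists_conj` : frames of the same shape and values (and of full dimension) are conjugate under `O Q`;
* `disc` : the product of the values `τ i ^ ℓ i` only depends on the shape (and `V`).
-/

set_option autoImplicit false

namespace Cfsg.Agent.H844.Unip

open QuadraticMap Cfsg.Agent.LieClassical.OrthCore

variable {V : Type*} [AddCommGroup V] [Module (ZMod 3) V]

theorem add3 (v : V) : v + v + v = 0 := by
  have h : (3 : ZMod 3) • v = 0 := by
    rw [show (3 : ZMod 3) = 0 from rfl, zero_smul]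
  rw [← h, show (3 : ZMod 3) = 1 + 1 + 1 from rfl, add_smul, add_smul, one_smul]

/-- `L` is skew and `L ^ 3 = 0` -/
structure Sk (Q : QuadraticForm (ZMod 3) V) (L : V →ₗ[ZMod 3] V) : Prop where
  skew : ∀ v w, polar Q (L v) w = - polar Q v (L w)
  cube : ∀ v, L (L (L v)) = 0

/-- the logarithm of an isometry of order three -/
def lg (x : V ≃ₗ[ZMod 3] V) : V →ₗ[ZMod 3] V := (x : V →ₗ[ZMod 3] V) ∘ₗ (x : V →ₗ[ZMod 3] V) - x

theorem lg_apply (x : V ≃ₗ[ZMod 3] V) (v : V) : lg x v = x (x v) - x v := rfl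

variable {Q : QuadraticForm (ZMod 3) V}

theorem polar_self0 (v : V) (h : Q v = 0) : polar Q v v = 0 := by
  rw [polar_self', h, mul_zero]

theorem Q_of_polar {v : V} (h : polar Q v v = 0) : Q v = 0 := by
  rw [polar_self'] at h
  have : (2 : ZMod 3) * (2 * Q v) = 0 := by rw [h, mul_zero]
  rw [← mul_assoc, show (2 : ZMod 3) * 2 = 1 from rfl, one_mul] at this
  exact this

/-- `Q v = - b(v, v)` -/
theorem Q_eq (v : V) : Q v = - polar Q v v := by
  rw [polar_self']
  have h : ∀ a : ZMod 3, a = - (2 * a) := by decide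
  exact h _

theorem eq_zero_of_neg {a : ZMod 3} (h : a = - a) : a = 0 := by
  revert a; decide

theorem pol_neg_left (v w : V) : polar Q (-v) w = - polar Q v w := QuadraticMap.polar_neg_left Q v w
theorem pol_neg_right (v w : V) : polar Q v (-w) = - polar Q v w := QuadraticMap.polar_neg_right Q v w
theorem pol_add_left (v v' w : V) : polar Q (v + v') w = polar Q v w + polar Q v' w :=
  QuadraticMap.polar_add_left Q v v' w
theorem pol_add_right (v w w' : V) : polar Q v (w + w') = polar Q v w + polar Q v w' :=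
  QuadraticMap.polar_add_right Q v w w'
theorem pol_sub_left (v v' w : V) : polar Q (v - v') w = polar Q v w - polar Q v' w :=
  QuadraticMap.polar_sub_left Q v v' w
theorem pol_sub_right (v w w' : V) : polar Q v (w - w') = polar Q v w - polar Q v w' :=
  QuadraticMap.polar_sub_right Q v w w'
theorem pol_smul_left (a : ZMod 3) (v w : V) : polar Q (a • v) w = a * polar Q v w :=
  QuadraticMap.polar_smul_left Q a v w
theorem pol_smul_right (a : ZMod 3) (v w : V) : polar Q v (a • w) = a * polar Q v w :=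
  QuadraticMap.polar_smul_right Q a v w
theorem pol_comm (v w : V) : polar Q v w = polar Q w v := QuadraticMap.polar_comm Q v w
theorem pol_zero_left (w : V) : polar Q 0 w = 0 := QuadraticMap.polar_zero_left Q w
theorem pol_zero_right (w : V) : polar Q w 0 = 0 := QuadraticMap.polar_zero_right Q w

theorem Sk.of_mem {x : V ≃ₗ[ZMod 3] V} (hx : x ∈ O Q) (h3 : ∀ v, x (x (x v)) = v) : Sk Q (lg x) where
  skew v w := by
    have h1 : ∀ a b, polar Q (x a) (x b) = polar Q a b := polar_map hx
    rw [lg_apply, lg_apply, pol_sub_left, pol_sub_right]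
    have h2 : polar Q (x (x v)) w = polar Q v (x w) := by
      rw [← h1 v (x w), ← h1 (x v) (x (x w)), h3]
    have h4 : polar Q (x v) w = polar Q v (x (x w)) := by
      rw [← h1 v (x (x w)), h3]
    rw [h2, h4]
    ring
  cube v := by
    simp only [lg_apply, map_sub, h3]
    linear_combination (norm := module) (1 : ℤ) • add3 (x v) - (1 : ℤ) • add3 (x (x v))

theorem apply_eq {x : V ≃ₗ[ZMod 3] V} (h3 : ∀ v, x (x (x v)) = v) (v : V) :
    x v = v + lg x v - lg x (lg x v) := by
  simp only [lg_apply, map_sub, h3]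
  have h6 := add3 (x v)
  have : v + (x (x v) - x v) - (x v - v - (v - x (x v))) =
    x v + (v + v + v) - (x v + x v + x v) := by abel
  rw [this, h6, add3, add_zero, sub_zero]

theorem Sk.polLL {L : V →ₗ[ZMod 3] V} (h : Sk Q L) (v w : V) : polar Q (L (L v)) w = polar Q v (L (L w)) := by
  rw [h.skew, h.skew, neg_neg]

theorem Sk.pol0 {L : V →ₗ[ZMod 3] V} (h : Sk Q L) (v : V) : polar Q v (L v) = 0 := by
  apply eq_zero_of_neg
  nth_rewrite 1 [pol_comm]
  exact h.skew v v

/-- the exponential -/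
def ex {L : V →ₗ[ZMod 3] V} (h : Sk Q L) : V ≃ₗ[ZMod 3] V :=
  LinearEquiv.ofLinearMap (LinearMap.id + L - L ∘ₗ L) (LinearMap.id - L - L ∘ₗ L)
    (by
      ext v
      simp only [LinearMap.comp_apply, LinearMap.sub_apply, LinearMap.add_apply, LinearMap.id_apply, map_sub,
        h.cube, map_zero]
      linear_combination (norm := module) (-1 : ℤ) • add3 (L (L v)))
    (by
      ext v
      simp only [LinearMap.comp_apply, LinearMap.sub_apply, LinearMap.add_apply, LinearMap.id_apply, map_sub, map_add,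
        h.cube, map_zero]
      linear_combination (norm := module) (-1 : ℤ) • add3 (L (L v)))

theorem ex_apply {L : V →ₗ[ZMod 3] V} (h : Sk Q L) (v : V) : ex h v = v + L v - L (L v) := rfl

theorem ex_ex {L : V →ₗ[ZMod 3] V} (h : Sk Q L) (v : V) : ex h (ex h v) = v - L v - L (L v) := by
  simp only [ex_apply, map_sub, map_add, h.cube, map_zero]
  have h1 := add3 (L v)
  have e : v + L v - L (L v) + (L v + L (L v) - 0) - (L (L v) + 0 - 0) = v - L v - L (L v) + (L v + L v + L v) := by
    abel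
  rw [e, h1, add_zero]

theorem ex_cube {L : V →ₗ[ZMod 3] V} (h : Sk Q L) (v : V) : ex h (ex h (ex h v)) = v := by
  rw [ex_ex]
  simp only [ex_apply, map_sub, map_add, h.cube, map_zero]
  have := add3 (L (L v))
  have e : v + L v - L (L v) - (L v + L (L v) - 0) - (L (L v) + 0 - 0) = v - (L (L v) + L (L v) + L (L v)) := by
    abel
  rw [e, this, sub_zero]

theorem lg_ex {L : V →ₗ[ZMod 3] V} (h : Sk Q L) : lg (ex h) = L := by
  ext v
  rw [lg_apply, ex_ex, ex_apply]
  have h1 := add3 (L v)
  have e : v - L v - L (L v) - (v + L v - L (L v)) = L v - (L v + L v + L v) := by abel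
  rw [e, h1, sub_zero]

theorem ex_mem {L : V →ₗ[ZMod 3] V} (h : Sk Q L) : ex h ∈ O Q := by
  rw [mem_O]
  intro v
  rw [Q_eq, Q_eq v, neg_inj, ex_apply]
  simp only [pol_sub_left, pol_sub_right, pol_add_left, pol_add_right]
  have h1 : polar Q v (L v) = 0 := h.pol0 v
  have h2 : polar Q (L v) v = 0 := by rw [pol_comm, h1]
  have h3 : polar Q (L v) (L v) = - polar Q v (L (L v)) := h.skew _ _
  have h4 : polar Q (L (L v)) v = polar Q v (L (L v)) := pol_comm _ _
  have h5 : polar Q (L v) (L (L v)) = 0 := by rw [h.skew, h.cube, pol_zero_right, neg_zero]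
  have h6 : polar Q (L (L v)) (L v) = 0 := by rw [pol_comm, h5]
  have h7 : polar Q (L (L v)) (L (L v)) = 0 := by rw [h.polLL, h.cube, pol_zero_right]
  rw [h1, h2, h3, h4, h5, h6, h7]
  generalize polar Q v v = a
  generalize polar Q v (L (L v)) = b
  revert a b
  decide

/-- powers -/
theorem Sk.pow {L : V →ₗ[ZMod 3] V} (h : Sk Q L) (k : ℕ) : ∀ v w, polar Q ((L ^ k) v) w = (-1) ^ k * polar Q v ((L ^ k) w) := by
  induction k with
  | zero => intro v w; simp
  | succ k ih =>
    intro v w
    have e : (L ^ (k + 1)) w = L ((L ^ k) w) := by rw [pow_succ', Module.End.mul_apply]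
    have e' : (L ^ (k + 1)) v = (L ^ k) (L v) := by rw [pow_succ, Module.End.mul_apply]
    rw [e', e, ih, h.skew]
    ring

theorem conj_of_comm {x y : V ≃ₗ[ZMod 3] V} (hx : ∀ v, x (x (x v)) = v) (hy : ∀ v, y (y (y v)) = v)
    {g : V ≃ₗ[ZMod 3] V} (hg : ∀ v, g (lg x v) = lg y (g v)) : g * x * g⁻¹ = y := by
  rw [mul_inv_eq_iff_eq_mul]
  ext v
  show g (x v) = y (g v)
  rw [apply_eq hx, apply_eq hy, map_sub, map_add, hg, hg, hg]

theorem comm_of_conj {x y g : V ≃ₗ[ZMod 3] V} (h : g * x * g⁻¹ = y) (v : V) : g (lg x v) = lg y (g v) := by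
  rw [mul_inv_eq_iff_eq_mul] at h
  have h1 : ∀ v, g (x v) = y (g v) := fun v => LinearEquiv.congr_fun h v
  rw [lg_apply, lg_apply, map_sub, h1, h1]

/-! ### Frames -/

/-- A shape: generators with block lengths and a pairing. -/
structure Shp where
  m : ℕ
  l : Fin m → ℕ
  s : Fin m → Fin m

/-- the consistency conditions of a shape -/
structure Shp.Ok (S : Shp) : Prop where
  pos : ∀ i, 0 < S.l i
  len : ∀ i, S.l (S.s i) = S.l i
  inv : ∀ i, S.s (S.s i) = i

/-- `p` is a frame of shape `S` with values `τ` -/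
structure Fr (Q : QuadraticForm (ZMod 3) V) (L : V →ₗ[ZMod 3] V) (S : Shp) (τ : Fin S.m → ZMod 3) (p : Fin S.m → V) :
    Prop where
  top : ∀ i, (L ^ S.l i) (p i) = 0
  pair : ∀ i j k, polar Q (p i) ((L ^ k) (p j)) = if j = S.s i ∧ k + 1 = S.l i then τ i else 0
  ne : ∀ i, τ i ≠ 0

/-- the vectors of a frame -/
def vec (L : V →ₗ[ZMod 3] V) (S : Shp) (p : Fin S.m → V) (x : Σ i : Fin S.m, Fin (S.l i)) : V :=
  (L ^ (x.2 : ℕ)) (p x.1)

variable {L L' : V →ₗ[ZMod 3] V} {S : Shp} {τ τ' : Fin S.m → ZMod 3} {p p' : Fin S.m → V}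

theorem Fr.polar_vec (hL : Sk Q L) (hp : Fr Q L S τ p) (x y : Σ i : Fin S.m, Fin (S.l i)) :
    polar Q (vec L S p x) (vec L S p y)
      = (-1) ^ (x.2 : ℕ) * (if y.1 = S.s x.1 ∧ ((x.2 : ℕ) + (y.2 : ℕ)) + 1 = S.l x.1 then τ x.1 else 0) := by
  rw [vec, vec, hL.pow, ← Module.End.mul_apply, ← pow_add, hp.pair]

/-- the partner of an index -/
def partner (S : Shp) (hS : S.Ok) (x : Σ i : Fin S.m, Fin (S.l i)) : Σ i : Fin S.m, Fin (S.l i) :=
  ⟨S.s x.1, ⟨S.l x.1 - 1 - (x.2 : ℕ), by
    have := x.2.2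
    rw [hS.len]
    omega⟩⟩

theorem Fr.polar_partner (hL : Sk Q L) (hS : S.Ok) (hp : Fr Q L S τ p) (x y : Σ i : Fin S.m, Fin (S.l i)) :
    polar Q (vec L S p x) (vec L S p (partner S hS y)) = if x = y then (-1) ^ (x.2 : ℕ) * τ x.1 else 0 := by
  rw [hp.polar_vec hL]
  obtain ⟨i, s⟩ := x
  obtain ⟨j, t⟩ := y
  have hs := s.2
  have ht := t.2
  by_cases hij : i = j
  · subst hij
    by_cases hst : s = t
    · subst hst
      rw [if_pos rfl, if_pos]
      refine ⟨rfl, ?_⟩
      simp only [partner]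
      omega
    · rw [if_neg, if_neg, mul_zero]
      · intro h
        apply hst
        simpa using h
      · rintro ⟨-, h⟩
        simp only [partner] at h
        apply hst
        apply Fin.ext
        omega
  · rw [if_neg, if_neg, mul_zero]
    · intro h
      exact hij (congrArg Sigma.fst h)
    · rintro ⟨h, -⟩
      simp only [partner] at h
      apply hij
      rw [← hS.inv i, ← h, hS.inv]

theorem neg_one_pow_ne (k : ℕ) : ((-1 : ZMod 3)) ^ k ≠ 0 := pow_ne_zero _ (by decide)

theorem Fr.linearIndependent (hL : Sk Q L) (hS : S.Ok) (hp : Fr Q L S τ p) :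
    LinearIndependent (ZMod 3) (vec L S p) := by
  rw [Fintype.linearIndependent_iff]
  intro c hc y
  have h := congrArg (fun v => polarBilin Q v (vec L S p (partner S hS y))) hc
  simp only [map_sum, LinearMap.sum_apply, map_smul, LinearMap.smul_apply, map_zero, LinearMap.zero_apply] at h
  rw [Finset.sum_eq_single y] at h
  · rw [polarBilin_apply_apply, hp.polar_partner hL hS, if_pos rfl, smul_eq_mul] at h
    rcases mul_eq_zero.1 h with h | h
    · exact h
    · rcases mul_eq_zero.1 h with h | h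
      · exact absurd h (neg_one_pow_ne _)
      · exact absurd h (hp.ne _)
  · intro x _ hx
    rw [polarBilin_apply_apply, hp.polar_partner hL hS, if_neg hx, smul_zero]
  · intro h; exact absurd (Finset.mem_univ _) h

/-- the dimension of a frame -/
def Shp.dim (S : Shp) : ℕ := ∑ i, S.l i

theorem Shp.card (S : Shp) : Fintype.card (Σ i : Fin S.m, Fin (S.l i)) = S.dim := by
  rw [Fintype.card_sigma]
  simp [Shp.dim]

variable [FiniteDimensional (ZMod 3) V]

/-- the basis of a frame -/
noncomputable def Fr.basis (hL : Sk Q L) (hS : S.Ok) (hp : Fr Q L S τ p) (hd : S.dim = Module.finrank (ZMod 3) V) :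
    Module.Basis (Σ i : Fin S.m, Fin (S.l i)) (ZMod 3) V :=
  Module.Basis.mk (hp.linearIndependent hL hS) (by
    rw [top_le_iff]
    apply (hp.linearIndependent hL hS).span_eq_top_of_card_eq_finrank'
    rw [S.card, hd])

theorem Fr.basis_apply (hL : Sk Q L) (hS : S.Ok) (hp : Fr Q L S τ p) (hd : S.dim = Module.finrank (ZMod 3) V)
    (x : Σ i : Fin S.m, Fin (S.l i)) : hp.basis hL hS hd x = vec L S p x := by
  rw [Fr.basis, Module.Basis.mk_apply]

omit [FiniteDimensional (ZMod 3) V] in
theorem apply_vec (hp : Fr Q L S τ p) (i : Fin S.m) (s : ℕ) (hs : s < S.l i) :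
    L (vec L S p ⟨i, ⟨s, hs⟩⟩) = if h : s + 1 < S.l i then vec L S p ⟨i, ⟨s + 1, h⟩⟩ else 0 := by
  have h1 : L (vec L S p ⟨i, ⟨s, hs⟩⟩) = (L ^ (s + 1)) (p i) := by
    rw [vec, pow_succ', Module.End.mul_apply]
  rw [h1]
  split_ifs with h
  · rfl
  · have : s + 1 = S.l i := by omega
    rw [this, hp.top]

/-- **Frames of the same shape and the same values are conjugate.** -/
theorem exists_conj (hL : Sk Q L) (hL' : Sk Q L') (hS : S.Ok) (hp : Fr Q L S τ p) (hp' : Fr Q L' S τ p')
    (hd : S.dim = Module.finrank (ZMod 3) V) :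
    ∃ g : V ≃ₗ[ZMod 3] V, g ∈ O Q ∧ (∀ v, g (L v) = L' (g v)) ∧ ∀ i, g (p i) = p' i := by
  set b := hp.basis hL hS hd with hb
  set b' := hp'.basis hL' hS hd with hb'
  have hbx : ∀ x, b x = vec L S p x := hp.basis_apply hL hS hd
  have hbx' : ∀ x, b' x = vec L' S p' x := hp'.basis_apply hL' hS hd
  set g : V ≃ₗ[ZMod 3] V := b.equiv b' (Equiv.refl _) with hg
  have hgb : ∀ x, g (vec L S p x) = vec L' S p' x := by
    intro x
    rw [← hbx, ← hbx', hg, Module.Basis.equiv_apply, Equiv.refl_apply]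
  have hpol : ∀ v w, polar Q (g v) (g w) = polar Q v w := by
    have h1 : (polarBilin Q).compl₁₂ (g : V →ₗ[ZMod 3] V) (g : V →ₗ[ZMod 3] V) = polarBilin Q := by
      refine LinearMap.ext_basis b b fun x y => ?_
      rw [LinearMap.compl₁₂_apply, polarBilin_apply_apply, polarBilin_apply_apply]
      show polar Q (g (b x)) (g (b y)) = _
      rw [hbx, hbx, hgb, hgb, hp.polar_vec hL, hp'.polar_vec hL']
    intro v w
    have := congrArg (fun B => B v w) h1
    exact this
  refine ⟨g, ?_, ?_, ?_⟩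
  · rw [mem_O]
    intro v
    rw [Q_eq, Q_eq v, hpol]
  · have h2 : (g : V →ₗ[ZMod 3] V) ∘ₗ L = L' ∘ₗ (g : V →ₗ[ZMod 3] V) := by
      refine b.ext fun x => ?_
      show g (L (b x)) = L' (g (b x))
      obtain ⟨i, ⟨s, hs⟩⟩ := x
      rw [hbx, hgb, apply_vec hp, apply_vec hp']
      split_ifs with h
      · exact hgb _
      · exact map_zero _
    intro v
    exact LinearMap.congr_fun h2 v
  · intro i
    have hi : 0 < S.l i := hS.pos i
    have h1 := hgb ⟨i, ⟨0, hi⟩⟩
    simpa [vec] using h1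

/-! ### The discriminant -/

theorem sq_eq_one {u : ZMod 3} (h : u ≠ 0) : u * u = 1 := by
  revert u; decide

omit [FiniteDimensional (ZMod 3) V] in
theorem gram_eq {ι : Type*} [Fintype ι] [DecidableEq ι] (b b' : Module.Basis ι (ZMod 3) V) :
    (Matrix.of fun x y => polar Q (b' x) (b' y)).det = (Matrix.of fun x y => polar Q (b x) (b y)).det := by
  have h1 : LinearMap.BilinForm.toMatrix b' (polarBilin Q)
      = (b.toMatrix b').transpose * LinearMap.BilinForm.toMatrix b (polarBilin Q) * b.toMatrix b' := by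
    rw [LinearMap.BilinForm.toMatrix_mul_basis_toMatrix b b']
  have h2 : (b.toMatrix b').det ≠ 0 := by
    intro h
    have h3 : (b.toMatrix b') * (b'.toMatrix b) = 1 := Module.Basis.toMatrix_mul_toMatrix_flip b b'
    have h4 := congrArg Matrix.det h3
    rw [Matrix.det_mul, h, zero_mul, Matrix.det_one] at h4
    exact zero_ne_one h4
  have h5 : ∀ c : Module.Basis ι (ZMod 3) V, (Matrix.of fun x y => polar Q (c x) (c y)) =
      LinearMap.BilinForm.toMatrix c (polarBilin Q) := by
    intro c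
    ext x y
    rw [LinearMap.BilinForm.toMatrix_apply]
    rfl
  rw [h5, h5, h1, Matrix.det_mul, Matrix.det_mul, Matrix.det_transpose, mul_comm, ← mul_assoc, sq_eq_one h2,
    one_mul]

/-- **The discriminant of a frame.** -/
theorem disc (hL : Sk Q L) (hL' : Sk Q L') (hS : S.Ok) (hp : Fr Q L S τ p) (hp' : Fr Q L' S τ' p')
    (hd : S.dim = Module.finrank (ZMod 3) V) : ∏ i, τ i ^ S.l i = ∏ i, τ' i ^ S.l i := by
  classical
  have h1 := gram_eq (Q := Q) (hp.basis hL hS hd) (hp'.basis hL' hS hd)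
  simp only [Fr.basis_apply] at h1
  set M := (Matrix.of fun x y => polar Q (vec L S p x) (vec L S p y)) with hM
  set M' := (Matrix.of fun x y => polar Q (vec L' S p' x) (vec L' S p' y)) with hM'
  have h2 : M' = Matrix.diagonal (fun x : Σ i : Fin S.m, Fin (S.l i) => τ' x.1 * τ x.1) * M := by
    ext x y
    rw [Matrix.diagonal_mul, hM, hM', Matrix.of_apply, Matrix.of_apply, hp.polar_vec hL, hp'.polar_vec hL']
    split_ifs
    · have h3 := sq_eq_one (hp.ne x.1)
      linear_combination (-(-1) ^ (x.2 : ℕ) * τ' x.1) * h3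
    · ring
  have h3 : M.det ≠ 0 := by
    intro h
    obtain ⟨v, hv, hv'⟩ := Matrix.exists_vecMul_eq_zero_iff.2 h
    apply hv
    ext y
    have h4 := congrFun hv' (partner S hS y)
    rw [Matrix.vecMul, dotProduct] at h4
    rw [Finset.sum_eq_single y] at h4
    · rw [hM, Matrix.of_apply, hp.polar_partner hL hS, if_pos rfl] at h4
      rcases mul_eq_zero.1 h4 with h | h
      · exact h
      · rcases mul_eq_zero.1 h with h | h
        · exact absurd h (neg_one_pow_ne _)
        · exact absurd h (hp.ne _)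
    · intro x _ hx
      rw [hM, Matrix.of_apply, hp.polar_partner hL hS, if_neg hx, mul_zero]
    · intro h; exact absurd (Finset.mem_univ _) h
  rw [h2, Matrix.det_mul, Matrix.det_diagonal] at h1
  have h4 : ∏ x : (Σ i : Fin S.m, Fin (S.l i)), τ' x.1 * τ x.1 = 1 := by
    apply mul_right_cancel₀ h3
    rw [h1, one_mul]
  rw [Finset.prod_mul_distrib, Fintype.prod_sigma, Fintype.prod_sigma] at h4
  simp only [Finset.prod_const, Finset.card_univ, Fintype.card_fin] at h4
  have h5 : ∏ i, τ i ^ S.l i ≠ 0 := Finset.prod_ne_zero_iff.2 fun i _ => pow_ne_zero _ (hp.ne i)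
  have h6 := sq_eq_one h5
  calc ∏ i, τ i ^ S.l i = ((∏ i, τ' i ^ S.l i) * ∏ i, τ i ^ S.l i) * ∏ i, τ i ^ S.l i := by rw [h4, one_mul]
    _ = ∏ i, τ' i ^ S.l i := by rw [mul_assoc, h6, mul_one]

end Cfsg.Agent.H844.Unip
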