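import Mathlib
import Cfsg.Agent.H844.Unip

/-!
# Isometries of order three of quadratic spaces over `F₃` (helper844), II: peeling of blocks
-/

set_option autoImplicit false

namespace Cfsg.Agent.H844.Unip

open QuadraticMap Cfsg.Agent.LieClassical.OrthCore

variable {V : Type*} [AddCommGroup V] [Module (ZMod 3) V] {Q : QuadraticForm (ZMod 3) V} {L : V →ₗ[ZMod 3] V}

/-! ### Shapes -/

/-- add a self-paired generator -/
def Shp.bl (l : ℕ) (S : Shp) : Shp := ⟨S.m + 1, Fin.cons l S.l, Fin.cons 0 (Fin.succ ∘ S.s)⟩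

/-- add a pair of generators of length two -/
def Shp.two (S : Shp) : Shp :=
  ⟨S.m + 2, Fin.cons 2 (Fin.cons 2 S.l), Fin.cons 1 (Fin.cons 0 (Fin.succ ∘ Fin.succ ∘ S.s))⟩

/-- the empty shape -/
def Shp.nil : Shp := ⟨0, Fin.elim0, Fin.elim0⟩

theorem Shp.nil_ok : Shp.nil.Ok := ⟨fun i => i.elim0, fun i => i.elim0, fun i => i.elim0⟩

theorem Shp.Ok.bl {S : Shp} (hS : S.Ok) {l : ℕ} (hl : 0 < l) : (Shp.bl l S).Ok where
  pos i := by
    refine Fin.cases ?_ (fun i => ?_) i
    · exact hl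
    · exact hS.pos i
  len i := by
    refine Fin.cases ?_ (fun i => ?_) i
    · rfl
    · exact hS.len i
  inv i := by
    refine Fin.cases ?_ (fun i => ?_) i
    · rfl
    · show (Fin.cons 0 (Fin.succ ∘ S.s) : Fin (S.m + 1) → Fin (S.m + 1)) (Fin.succ (S.s i)) = _
      rw [Fin.cons_succ, Function.comp_apply, hS.inv]

theorem Shp.Ok.two {S : Shp} (hS : S.Ok) : (Shp.two S).Ok where
  pos i := by
    refine Fin.cases ?_ (fun i => Fin.cases ?_ (fun i => ?_) i) i
    · exact Nat.succ_pos _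
    · exact Nat.succ_pos _
    · exact hS.pos i
  len i := by
    refine Fin.cases ?_ (fun i => Fin.cases ?_ (fun i => ?_) i) i
    · rfl
    · rfl
    · exact hS.len i
  inv i := by
    refine Fin.cases ?_ (fun i => Fin.cases ?_ (fun i => ?_) i) i
    · rfl
    · rfl
    · show (Fin.cons 1 (Fin.cons 0 (Fin.succ ∘ Fin.succ ∘ S.s)) : Fin (S.m + 2) → Fin (S.m + 2))
        (Fin.succ (Fin.succ (S.s i))) = _
      rw [Fin.cons_succ, Fin.cons_succ, Function.comp_apply, Function.comp_apply, hS.inv]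

theorem Fr.nil : Fr Q L Shp.nil Fin.elim0 Fin.elim0 := ⟨fun i => i.elim0, fun i => i.elim0, fun i => i.elim0⟩

/-- add a self-paired generator to a frame -/
theorem Fr.bl (hL : Sk Q L) {S : Shp} {τ : Fin S.m → ZMod 3} {p : Fin S.m → V} (hp : Fr Q L S τ p) {l : ℕ}
    {c : ZMod 3} {v : V} (hc : c ≠ 0) (hl : (L ^ l) v = 0)
    (hv : ∀ k, polar Q v ((L ^ k) v) = if k + 1 = l then c else 0) (hvp : ∀ i k, polar Q v ((L ^ k) (p i)) = 0) :
    Fr Q L (Shp.bl l S) (Fin.cons c τ) (Fin.cons v p) where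
  top i := by
    refine Fin.cases ?_ (fun i => ?_) i
    · exact hl
    · exact hp.top i
  pair i j k := by
    refine Fin.cases (Fin.cases ?_ (fun j => ?_) j) (fun i => Fin.cases ?_ (fun j => ?_) j) i
    · show polar Q v ((L ^ k) v) = _
      rw [hv]
      simp [Shp.bl]
    · show polar Q v ((L ^ k) (p j)) = _
      rw [hvp]
      simp [Shp.bl]
    · show polar Q (p i) ((L ^ k) v) = _
      have h : polar Q (p i) ((L ^ k) v) = 0 := by
        have h1 := hL.pow k (p i) v
        rw [pol_comm, hvp] at h1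
        rcases mul_eq_zero.1 h1.symm with h2 | h2
        · exact absurd h2 (neg_one_pow_ne k)
        · exact h2
      rw [h]
      simp [Shp.bl, (Fin.succ_ne_zero _).symm]
    · show polar Q (p i) ((L ^ k) (p j)) = _
      rw [hp.pair]
      simp [Shp.bl]
  ne i := by
    refine Fin.cases ?_ (fun i => ?_) i
    · exact hc
    · exact hp.ne i

/-- add a pair of generators of length two to a frame -/
theorem Fr.two (hL : Sk Q L) {S : Shp} {τ : Fin S.m → ZMod 3} {p : Fin S.m → V} (hp : Fr Q L S τ p) {u w : V}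
    (hu : (L ^ 2) u = 0) (hw : (L ^ 2) w = 0) (huu : ∀ k, polar Q u ((L ^ k) u) = 0)
    (hww : ∀ k, polar Q w ((L ^ k) w) = 0) (huw : ∀ k, polar Q u ((L ^ k) w) = if k = 1 then 1 else 0)
    (hup : ∀ i k, polar Q u ((L ^ k) (p i)) = 0) (hwp : ∀ i k, polar Q w ((L ^ k) (p i)) = 0) :
    Fr Q L (Shp.two S) (Fin.cons 1 (Fin.cons (-1) τ)) (Fin.cons u (Fin.cons w p)) := by
  have hsw : ∀ a b : V, ∀ k, polar Q a ((L ^ k) b) = 0 → polar Q b ((L ^ k) a) = 0 := by
    intro a b k h
    have h1 := hL.pow k b a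
    rw [pol_comm, h] at h1
    rcases mul_eq_zero.1 h1.symm with h2 | h2
    · exact absurd h2 (neg_one_pow_ne k)
    · exact h2
  have key : ∀ (i j : Fin (S.m + 2)) (k : ℕ), polar Q ((Fin.cons u (Fin.cons w p : Fin (S.m + 1) → V) : Fin (S.m + 2) → V) i)
      ((L ^ k) ((Fin.cons u (Fin.cons w p : Fin (S.m + 1) → V) : Fin (S.m + 2) → V) j)) =
      if j = (Fin.cons 1 (Fin.cons 0 (Fin.succ ∘ Fin.succ ∘ S.s)) : Fin (S.m + 2) → Fin (S.m + 2)) i ∧
        k + 1 = (Fin.cons 2 (Fin.cons 2 S.l : Fin (S.m + 1) → ℕ) : Fin (S.m + 2) → ℕ) i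
      then (Fin.cons 1 (Fin.cons (-1) τ : Fin (S.m + 1) → ZMod 3) : Fin (S.m + 2) → ZMod 3) i else 0 := by
    intro i j k
    have n1 : ∀ j : Fin S.m, (Fin.succ (Fin.succ j)) ≠ (0 : Fin (S.m + 2)) := fun j => Fin.succ_ne_zero _
    have n2 : ∀ j : Fin S.m, (Fin.succ (Fin.succ j)) ≠ (Fin.succ 0 : Fin (S.m + 2)) := fun j => by
      rw [Ne, Fin.succ_inj]
      exact Fin.succ_ne_zero j
    have n3 : (1 : Fin (S.m + 2)) = Fin.succ 0 := Fin.succ_zero_eq_one.symm
    have n4 : (Fin.succ 0 : Fin (S.m + 2)) ≠ 0 := Fin.succ_ne_zero _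
    rcases Fin.eq_zero_or_eq_succ i with rfl | ⟨i, rfl⟩
    · simp only [Fin.cons_zero]
      rw [n3]
      rcases Fin.eq_zero_or_eq_succ j with rfl | ⟨j, rfl⟩
      · simp only [Fin.cons_zero]
        rw [huu, if_neg]
        rintro ⟨h, -⟩
        exact n4 h.symm
      · rcases Fin.eq_zero_or_eq_succ j with rfl | ⟨j, rfl⟩
        · simp only [Fin.cons_zero, Fin.cons_succ]
          rw [huw]
          simp
        · simp only [Fin.cons_succ]
          rw [hup, if_neg]
          rintro ⟨h, -⟩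
          exact n2 _ h
    · rcases Fin.eq_zero_or_eq_succ i with rfl | ⟨i, rfl⟩
      · simp only [Fin.cons_zero, Fin.cons_succ]
        rcases Fin.eq_zero_or_eq_succ j with rfl | ⟨j, rfl⟩
        · simp only [Fin.cons_zero]
          have h1 := hL.pow k w u
          rw [pol_comm, huw] at h1
          by_cases hk : k = 1
          · subst hk
            rw [if_pos rfl] at h1
            simp only [pow_one] at h1 ⊢
            simp only [true_and, if_true]
            linear_combination h1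
          · rw [if_neg hk] at h1
            rw [if_neg]
            · rcases mul_eq_zero.1 h1.symm with h2 | h2
              · exact absurd h2 (neg_one_pow_ne k)
              · exact h2
            · rintro ⟨-, h⟩
              omega
        · rcases Fin.eq_zero_or_eq_succ j with rfl | ⟨j, rfl⟩
          · simp only [Fin.cons_zero, Fin.cons_succ]
            rw [hww, if_neg]
            rintro ⟨h, -⟩
            exact n4 h
          · simp only [Fin.cons_succ]
            rw [hwp, if_neg]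
            rintro ⟨h, -⟩
            exact n1 _ h
      · simp only [Fin.cons_succ, Function.comp_apply]
        rcases Fin.eq_zero_or_eq_succ j with rfl | ⟨j, rfl⟩
        · simp only [Fin.cons_zero]
          rw [hsw _ _ _ (hup i k), if_neg]
          rintro ⟨h, -⟩
          exact n1 _ h.symm
        · rcases Fin.eq_zero_or_eq_succ j with rfl | ⟨j, rfl⟩
          · simp only [Fin.cons_zero, Fin.cons_succ]
            rw [hsw _ _ _ (hwp i k), if_neg]
            rintro ⟨h, -⟩
            exact n2 _ h.symm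
          · simp only [Fin.cons_succ]
            rw [hp.pair]
            simp only [Fin.succ_inj]
  refine ⟨fun i => ?_, key, fun i => ?_⟩
  · refine Fin.cases ?_ (fun i => Fin.cases ?_ (fun i => ?_) i) i
    · exact hu
    · exact hw
    · exact hp.top i
  · refine Fin.cases ?_ (fun i => Fin.cases ?_ (fun i => ?_) i) i
    · show (1 : ZMod 3) ≠ 0
      decide
    · show (-1 : ZMod 3) ≠ 0
      decide
    · exact hp.ne i

/-! ### Peeling -/

/-- `W` is nondegenerate -/
def Nd (Q : QuadraticForm (ZMod 3) V) (W : Submodule (ZMod 3) V) : Prop :=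
  ∀ w ∈ W, (∀ y ∈ W, polar Q w y = 0) → w = 0

/-- `W` is invariant -/
def Iv (L : V →ₗ[ZMod 3] V) (W : Submodule (ZMod 3) V) : Prop := ∀ w ∈ W, L w ∈ W

/-- the orthogonal complement in `W` of the block generated by `v` -/
def pp (Q : QuadraticForm (ZMod 3) V) (L : V →ₗ[ZMod 3] V) (W : Submodule (ZMod 3) V) (v : V) :
    Submodule (ZMod 3) V :=
  W ⊓ LinearMap.ker ((polarBilin Q v).prod ((polarBilin Q v ∘ₗ L).prod (polarBilin Q v ∘ₗ L ∘ₗ L)))

theorem mem_pp {W : Submodule (ZMod 3) V} {v y : V} :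
    y ∈ pp Q L W v ↔ y ∈ W ∧ polar Q v y = 0 ∧ polar Q v (L y) = 0 ∧ polar Q v (L (L y)) = 0 := by
  rw [pp, Submodule.mem_inf, LinearMap.mem_ker]
  show y ∈ W ∧ (polar Q v y, polar Q v (L y), polar Q v (L (L y))) = (0, 0, 0) ↔ _
  simp only [Prod.mk.injEq]

theorem pp_iv (hL : Sk Q L) {W : Submodule (ZMod 3) V} (hW : Iv L W) (v : V) : Iv L (pp Q L W v) := by
  intro y hy
  rw [mem_pp] at hy ⊢
  exact ⟨hW y hy.1, hy.2.2.1, hy.2.2.2, by rw [hL.cube, pol_zero_right]⟩

theorem finrank_inf_ker [FiniteDimensional (ZMod 3) V] {T : Type*} [AddCommGroup T] [Module (ZMod 3) T]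
    [FiniteDimensional (ZMod 3) T] (W : Submodule (ZMod 3) V) (φ : V →ₗ[ZMod 3] T) (h : ∀ t, ∃ w ∈ W, φ w = t) :
    Module.finrank (ZMod 3) W = Module.finrank (ZMod 3) ↥(W ⊓ LinearMap.ker φ) + Module.finrank (ZMod 3) T := by
  have h1 := LinearMap.finrank_range_add_finrank_ker (φ.domRestrict W)
  have h2 : LinearMap.range (φ.domRestrict W) = ⊤ := by
    rw [eq_top_iff]
    rintro t -
    obtain ⟨w, hw, rfl⟩ := h t
    exact ⟨⟨w, hw⟩, rfl⟩
  have h3 : Module.finrank (ZMod 3) (LinearMap.ker (φ.domRestrict W)) = Module.finrank (ZMod 3) ↥(W ⊓ LinearMap.ker φ) := by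
    have h4 : (LinearMap.ker (φ.domRestrict W)).map W.subtype = W ⊓ LinearMap.ker φ := by
      ext y
      simp only [Submodule.mem_map, LinearMap.mem_ker, Submodule.mem_inf]
      constructor
      · rintro ⟨⟨z, hz⟩, h5, rfl⟩
        exact ⟨hz, h5⟩
      · rintro ⟨h5, h6⟩
        exact ⟨⟨y, h5⟩, h6, rfl⟩
    rw [← h4]
    exact (Submodule.equivMapOfInjective W.subtype W.injective_subtype _).finrank_eq
  rw [h2, finrank_top, h3] at h1
  omega

theorem nd_of_proj {W W' : Submodule (ZMod 3) V} (hW : Nd Q W) (hle : W' ≤ W)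
    (h : ∀ w ∈ W, ∃ w' ∈ W', ∀ y ∈ W', polar Q y w = polar Q y w') : Nd Q W' := by
  intro y hy hy'
  apply hW y (hle hy)
  intro w hw
  obtain ⟨w', hw', h1⟩ := h w hw
  rw [h1 y hy, hy' w' hw']

section

variable [FiniteDimensional (ZMod 3) V] {W : Submodule (ZMod 3) V}

omit [FiniteDimensional (ZMod 3) V] in
theorem three_table (hL : Sk Q L) {v : V} (hQ : Q v = 0) :
    polar Q v v = 0 ∧ polar Q v (L v) = 0 ∧ polar Q (L v) v = 0 ∧ polar Q (L v) (L v) = - polar Q v (L (L v)) ∧
    polar Q (L (L v)) v = polar Q v (L (L v)) ∧ polar Q (L v) (L (L v)) = 0 ∧ polar Q (L (L v)) (L v) = 0 ∧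
    polar Q (L (L v)) (L (L v)) = 0 := by
  have h1 : polar Q v (L v) = 0 := hL.pol0 v
  have h5 : polar Q (L v) (L (L v)) = 0 := by rw [hL.skew, hL.cube, pol_zero_right, neg_zero]
  exact ⟨polar_self0 v hQ, h1, by rw [pol_comm, h1], hL.skew _ _, pol_comm _ _, h5, by rw [pol_comm, h5],
    by rw [hL.polLL, hL.cube, pol_zero_right]⟩

theorem inv_mul_self3 {c : ZMod 3} (hc : c ≠ 0) : c * c = 1 := by revert c; decide

/-- splitting off a block of length three -/
theorem three_split (hL : Sk Q L) (hW : Iv L W) (hN : Nd Q W) {v : V} (hv : v ∈ W) (hQ : Q v = 0)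
    (hc : polar Q v (L (L v)) ≠ 0) :
    Nd Q (pp Q L W v) ∧ Module.finrank (ZMod 3) W = Module.finrank (ZMod 3) (pp Q L W v) + 3 := by
  obtain ⟨t1, t2, t3, t4, t5, t6, t7, t8⟩ := three_table hL hQ
  set c := polar Q v (L (L v)) with hcdef
  have hcc : c * c = 1 := inv_mul_self3 hc
  constructor
  · apply nd_of_proj hN (fun y hy => (mem_pp.1 hy).1)
    intro w hw
    refine ⟨w - (c * polar Q v (L (L w))) • v - (c * polar Q v (L w)) • L v - (c * polar Q v w) • L (L v), ?_, ?_⟩
    · rw [mem_pp]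
      refine ⟨?_, ?_, ?_, ?_⟩
      · refine W.sub_mem (W.sub_mem (W.sub_mem hw (W.smul_mem _ hv)) (W.smul_mem _ (hW v hv)))
          (W.smul_mem _ (hW _ (hW v hv)))
      · simp only [pol_sub_right, pol_smul_right, t1, t2, ← hcdef]
        linear_combination (-polar Q v w) * hcc
      · simp only [map_sub, map_smul, hL.cube, pol_sub_right, pol_smul_right, t2, ← hcdef, pol_zero_right]
        linear_combination (-polar Q v (L w)) * hcc
      · simp only [map_sub, map_smul, hL.cube, map_zero, pol_sub_right, pol_smul_right, ← hcdef, pol_zero_right]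
        linear_combination (-polar Q v (L (L w))) * hcc
    · intro y hy
      obtain ⟨-, h1, h2, h3⟩ := mem_pp.1 hy
      have h1' : polar Q y v = 0 := by rw [pol_comm, h1]
      have h2' : polar Q y (L v) = 0 := by
        rw [pol_comm, hL.skew, h2, neg_zero]
      have h3' : polar Q y (L (L v)) = 0 := by rw [pol_comm, hL.polLL, h3]
      simp only [pol_sub_right, pol_smul_right, h1', h2', h3']
      ring
  · rw [pp, finrank_inf_ker W ((polarBilin Q v).prod ((polarBilin Q v ∘ₗ L).prod (polarBilin Q v ∘ₗ L ∘ₗ L)))]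
    · congr 1
      simp
    · rintro ⟨a, b, d⟩
      refine ⟨(c * d) • v + (c * b) • L v + (c * a) • L (L v), ?_, ?_⟩
      · exact W.add_mem (W.add_mem (W.smul_mem _ hv) (W.smul_mem _ (hW v hv))) (W.smul_mem _ (hW _ (hW v hv)))
      · show (polar Q v _, polar Q v (L _), polar Q v (L (L _))) = _
        simp only [map_add, map_smul, hL.cube, map_zero, pol_add_right, pol_smul_right, t1, t2, ← hcdef, pol_zero_right,
          Prod.mk.injEq]
        refine ⟨?_, ?_, ?_⟩
        · linear_combination a * hcc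
        · linear_combination b * hcc
        · linear_combination d * hcc

omit [FiniteDimensional (ZMod 3) V] in
theorem three_exists (hL : Sk Q L) (hW : Iv L W) (hN : Nd Q W) (h : ∃ w ∈ W, L (L w) ≠ 0) :
    ∃ v ∈ W, Q v = 0 ∧ polar Q v (L (L v)) ≠ 0 := by
  have h1 : ∃ v ∈ W, polar Q v (L (L v)) ≠ 0 := by
    by_contra hcon
    push Not at hcon
    obtain ⟨w, hw, hw'⟩ := h
    apply hw'
    apply hN _ (hW _ (hW _ hw))
    intro y hy
    have h2 := hcon (y + w) (W.add_mem hy hw)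
    simp only [map_add, pol_add_left, pol_add_right, hcon y hy, hcon w hw] at h2
    have h3 : polar Q w (L (L y)) = polar Q y (L (L w)) := by
      rw [← hL.polLL, pol_comm]
    rw [hL.polLL, h3]
    rw [h3] at h2
    revert h2
    generalize polar Q y (L (L w)) = a
    revert a
    decide
  obtain ⟨v, hv, hc⟩ := h1
  set c := polar Q v (L (L v)) with hcdef
  have hcc : c * c = 1 := inv_mul_self3 hc
  refine ⟨v - (c * Q v) • L (L v), W.sub_mem hv (W.smul_mem _ (hW _ (hW _ hv))), ?_, ?_⟩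
  · apply Q_of_polar
    have h5 : polar Q (L (L v)) v = c := pol_comm _ _
    have h6 : polar Q (L (L v)) (L (L v)) = 0 := by rw [hL.polLL, hL.cube, pol_zero_right]
    have h7 : polar Q v v = 2 * Q v := polar_self' v
    rw [pol_sub_right, pol_sub_left, pol_sub_left, pol_smul_left, pol_smul_right, pol_smul_left, pol_smul_right,
      ← hcdef, h5, h6, h7]
    linear_combination (-2 * Q v) * hcc
  · simp only [map_sub, map_smul, hL.cube, smul_zero, sub_zero, pol_sub_left, pol_smul_left]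
    rw [hL.polLL, hL.cube, pol_zero_right, mul_zero, sub_zero]
    exact hc

theorem eq_two {c : ZMod 3} (h0 : c ≠ 0) (h1 : c ≠ 1) : c = 2 := by revert c; decide

/-- a generator of a block of length three with value 1, or the last one -/
theorem three_exists' (hL : Sk Q L) (hW : Iv L W) (hN : Nd Q W) (h : ∃ w ∈ W, L (L w) ≠ 0) :
    ∃ v ∈ W, Q v = 0 ∧ polar Q v (L (L v)) ≠ 0 ∧
      (polar Q v (L (L v)) = 1 ∨ ∀ w ∈ pp Q L W v, L (L w) = 0) := by
  obtain ⟨v, hv, hQ, hc⟩ := three_exists hL hW hN h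
  by_cases h1 : polar Q v (L (L v)) = 1
  · exact ⟨v, hv, hQ, hc, Or.inl h1⟩
  by_cases h2 : ∀ w ∈ pp Q L W v, L (L w) = 0
  · exact ⟨v, hv, hQ, hc, Or.inr h2⟩
  push Not at h2
  obtain ⟨v', hv', hQ', hc'⟩ := three_exists hL (pp_iv hL hW v) (three_split hL hW hN hv hQ hc).1 h2
  by_cases h3 : polar Q v' (L (L v')) = 1
  · exact ⟨v', (mem_pp.1 hv').1, hQ', hc', Or.inl h3⟩
  obtain ⟨hv'W, h4, h5, h6⟩ := mem_pp.1 hv'
  have h7 : polar Q (v + v') (L (L (v + v'))) = 1 := by
    have h8 : polar Q v' (L (L v)) = 0 := by rw [pol_comm, hL.polLL, h6]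
    simp only [map_add, pol_add_left, pol_add_right, h6, h8, eq_two hc h1, eq_two hc' h3]
    decide
  refine ⟨v + v', W.add_mem hv hv'W, ?_, ?_, Or.inl h7⟩
  · rw [Q_add, hQ, hQ', h4, add_zero, add_zero]
  · rw [h7]; decide

omit [FiniteDimensional (ZMod 3) V] in
/-- existence of a block pair of length two -/
theorem two_exists (hL : Sk Q L) (hW : Iv L W) (hN : Nd Q W) (h2 : ∀ w ∈ W, L (L w) = 0)
    (h : ∃ w ∈ W, L w ≠ 0) :
    ∃ u ∈ W, ∃ w ∈ W, Q u = 0 ∧ Q w = 0 ∧ polar Q u w = 0 ∧ polar Q u (L w) = 1 := by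
  obtain ⟨w, hw, hw'⟩ := h
  have h3 : ∃ u ∈ W, polar Q u (L w) ≠ 0 := by
    by_contra hcon
    push Not at hcon
    apply hw'
    apply hN _ (hW _ hw)
    intro y hy
    rw [pol_comm]
    exact hcon y hy
  obtain ⟨u, hu, huw⟩ := h3
  have hLL : ∀ a ∈ W, ∀ b, polar Q (L a) (L b) = 0 := by
    intro a ha b
    rw [pol_comm, hL.skew, h2 a ha, pol_zero_right, neg_zero]
  -- scale
  set c := polar Q u (L w) with hc
  have hcc : c * c = 1 := inv_mul_self3 huw
  have huw1 : polar Q (c • u) (L w) = 1 := by rw [pol_smul_left, ← hc, hcc]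
  obtain ⟨u0, hu0, hu0w⟩ : ∃ u0 ∈ W, polar Q u0 (L w) = 1 := ⟨c • u, W.smul_mem _ hu, huw1⟩
  -- make `u` singular
  obtain ⟨u1, hu1, hQu1, hu1w⟩ : ∃ u1 ∈ W, Q u1 = 0 ∧ polar Q u1 (L w) = 1 := by
    refine ⟨u0 - (Q u0) • L w, W.sub_mem hu0 (W.smul_mem _ (hW _ hw)), ?_, ?_⟩
    · apply Q_of_polar
      rw [pol_sub_right, pol_sub_left, pol_sub_left, pol_smul_left, pol_smul_right, pol_smul_left, pol_smul_right,
        hLL w hw, hu0w, pol_comm (L w), hu0w, polar_self']
      ring
    · rw [pol_sub_left, pol_smul_left, hLL w hw, hu0w]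
      ring
  -- make `w` singular
  obtain ⟨w1, hw1, hQw1, hu1w1⟩ : ∃ w1 ∈ W, Q w1 = 0 ∧ polar Q u1 (L w1) = 1 := by
    have e1 : polar Q w (L u1) = -1 := by
      rw [pol_comm, hL.skew, hu1w]
    refine ⟨w + (Q w) • L u1, W.add_mem hw (W.smul_mem _ (hW _ hu1)), ?_, ?_⟩
    · apply Q_of_polar
      rw [pol_add_right, pol_add_left, pol_add_left, pol_smul_left, pol_smul_right, pol_smul_left, pol_smul_right,
        hLL u1 hu1, e1, pol_comm (L u1), e1, polar_self']
      ring
    · rw [map_add, map_smul, h2 u1 hu1, smul_zero, add_zero, hu1w]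
  -- make `u`, `w` orthogonal
  refine ⟨u1 + (polar Q u1 w1) • L u1, W.add_mem hu1 (W.smul_mem _ (hW _ hu1)), w1, hw1, ?_, hQw1, ?_, ?_⟩
  · apply Q_of_polar
    have e2 := hL.pol0 u1
    rw [pol_add_right, pol_add_left, pol_add_left, pol_smul_left, pol_smul_right, pol_smul_left, pol_smul_right,
      hLL u1 hu1, e2, pol_comm (L u1), e2, polar_self', hQu1]
    ring
  · rw [pol_add_left, pol_smul_left, hL.skew, hu1w1]
    ring
  · rw [pol_add_left, pol_smul_left, hLL u1 hu1, hu1w1]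
    ring

/-- splitting off a pair of blocks of length two -/
theorem two_split (hL : Sk Q L) (hW : Iv L W) (hN : Nd Q W) (h2 : ∀ w ∈ W, L (L w) = 0) {u w : V} (hu : u ∈ W)
    (hw : w ∈ W) (hQu : Q u = 0) (hQw : Q w = 0) (huw : polar Q u w = 0) (huw1 : polar Q u (L w) = 1) :
    Nd Q (pp Q L (pp Q L W u) w) ∧
      Module.finrank (ZMod 3) W = Module.finrank (ZMod 3) (pp Q L (pp Q L W u) w) + 4 := by
  have hLL : ∀ a ∈ W, ∀ b, polar Q (L a) (L b) = 0 := by
    intro a ha b
    rw [pol_comm, hL.skew, h2 a ha, pol_zero_right, neg_zero]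
  have uu := polar_self0 u hQu
  have ww := polar_self0 w hQw
  have uLu := hL.pol0 u
  have wLw := hL.pol0 w
  have wu : polar Q w u = 0 := by rw [pol_comm, huw]
  have wLu : polar Q w (L u) = -1 := by rw [pol_comm, hL.skew, huw1]
  have uLLu : L (L u) = 0 := h2 u hu
  have wLLw : L (L w) = 0 := h2 w hw
  have hle : pp Q L (pp Q L W u) w ≤ W := fun y hy => (mem_pp.1 (mem_pp.1 hy).1).1
  have hmem : ∀ y, y ∈ pp Q L (pp Q L W u) w ↔
      y ∈ W ∧ polar Q u y = 0 ∧ polar Q u (L y) = 0 ∧ polar Q w y = 0 ∧ polar Q w (L y) = 0 := by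
    intro y
    rw [mem_pp, mem_pp]
    constructor
    · rintro ⟨⟨a, b, c, d⟩, e, f, g⟩
      exact ⟨a, b, c, e, f⟩
    · rintro ⟨a, b, c, e, f⟩
      exact ⟨⟨a, b, c, by rw [h2 y a, pol_zero_right]⟩, e, f, by rw [h2 y a, pol_zero_right]⟩
  constructor
  · apply nd_of_proj hN hle
    intro y hy
    refine ⟨y + (polar Q w (L y)) • u + (polar Q w y) • L u - (polar Q u (L y)) • w - (polar Q u y) • L w, ?_, ?_⟩
    · rw [hmem]
      refine ⟨?_, ?_, ?_, ?_, ?_⟩
      · exact W.sub_mem (W.sub_mem (W.add_mem (W.add_mem hy (W.smul_mem _ hu)) (W.smul_mem _ (hW _ hu)))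
          (W.smul_mem _ hw)) (W.smul_mem _ (hW _ hw))
      · simp only [pol_sub_right, pol_add_right, pol_smul_right, uu, uLu, huw, huw1]
        ring
      · simp only [map_add, map_sub, map_smul, uLLu, wLLw, pol_sub_right, pol_add_right, pol_smul_right, uLu, huw1,
          pol_zero_right]
        ring
      · simp only [pol_sub_right, pol_add_right, pol_smul_right, ww, wLw, wu, wLu]
        ring
      · simp only [map_add, map_sub, map_smul, uLLu, wLLw, pol_sub_right, pol_add_right, pol_smul_right, wLw, wLu,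
          pol_zero_right]
        ring
    · intro z hz
      obtain ⟨-, h3, h4, h5, h6⟩ := (hmem z).1 hz
      have h3' : polar Q z u = 0 := by rw [pol_comm, h3]
      have h4' : polar Q z (L u) = 0 := by rw [pol_comm, hL.skew, h4, neg_zero]
      have h5' : polar Q z w = 0 := by rw [pol_comm, h5]
      have h6' : polar Q z (L w) = 0 := by rw [pol_comm, hL.skew, h6, neg_zero]
      simp only [pol_sub_right, pol_add_right, pol_smul_right, h3', h4', h5', h6']
      ring
  · set φ : V →ₗ[ZMod 3] (ZMod 3 × ZMod 3) × (ZMod 3 × ZMod 3) :=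
      ((polarBilin Q u).prod (polarBilin Q u ∘ₗ L)).prod ((polarBilin Q w).prod (polarBilin Q w ∘ₗ L)) with hφ
    have hφa : ∀ y, φ y = ((polar Q u y, polar Q u (L y)), (polar Q w y, polar Q w (L y))) := fun y => rfl
    have h3 : pp Q L (pp Q L W u) w = W ⊓ LinearMap.ker φ := by
      ext y
      rw [hmem, Submodule.mem_inf, LinearMap.mem_ker, hφa, Prod.mk_eq_zero, Prod.mk_eq_zero, Prod.mk_eq_zero]
      tauto
    rw [h3, finrank_inf_ker W φ]
    · congr 1
      simp
    · rintro ⟨⟨a, b⟩, ⟨c, d⟩⟩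
      refine ⟨(a) • L w + b • w + (-c) • L u + (-d) • u, ?_, ?_⟩
      · exact W.add_mem (W.add_mem (W.add_mem (W.smul_mem _ (hW _ hw)) (W.smul_mem _ hw)) (W.smul_mem _ (hW _ hu)))
          (W.smul_mem _ hu)
      · rw [hφa]
        simp only [map_add, map_smul, uLLu, wLLw, pol_add_right, pol_smul_right, uu, uLu, huw, huw1, ww, wLw,
          wu, wLu, pol_zero_right, Prod.mk.injEq]
        refine ⟨⟨?_, ?_⟩, ?_, ?_⟩ <;> ring

/-- splitting off a vector fixed by the isometry -/
theorem one_split (hN : Nd Q W) {z : V} (hz : z ∈ W) (hc : polar Q z z ≠ 0) (h1 : ∀ w ∈ W, L w = 0) :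
    Nd Q (pp Q L W z) ∧ Module.finrank (ZMod 3) W = Module.finrank (ZMod 3) (pp Q L W z) + 1 := by
  have hmem : ∀ y, y ∈ pp Q L W z ↔ y ∈ W ∧ polar Q z y = 0 := by
    intro y
    rw [mem_pp]
    constructor
    · rintro ⟨a, b, -, -⟩
      exact ⟨a, b⟩
    · rintro ⟨a, b⟩
      rw [h1 y a, map_zero, pol_zero_right]
      exact ⟨a, b, rfl, rfl⟩
  set c := polar Q z z with hcdef
  have hcc : c * c = 1 := inv_mul_self3 hc
  constructor
  · apply nd_of_proj hN (fun y hy => ((hmem y).1 hy).1)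
    intro w hw
    refine ⟨w - (c * polar Q z w) • z, ?_, ?_⟩
    · rw [hmem]
      refine ⟨W.sub_mem hw (W.smul_mem _ hz), ?_⟩
      rw [pol_sub_right, pol_smul_right, ← hcdef]
      linear_combination (-polar Q z w) * hcc
    · intro y hy
      have h2 : polar Q y z = 0 := by rw [pol_comm, ((hmem y).1 hy).2]
      rw [pol_sub_right, pol_smul_right, h2]
      ring
  · have h3 : pp Q L W z = W ⊓ LinearMap.ker (polarBilin Q z) := by
      ext y
      rw [hmem, Submodule.mem_inf, LinearMap.mem_ker, polarBilin_apply_apply]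
    rw [h3, finrank_inf_ker W (polarBilin Q z)]
    · congr 1
      simp
    · intro a
      refine ⟨(c * a) • z, W.smul_mem _ hz, ?_⟩
      rw [polarBilin_apply_apply, pol_smul_right, ← hcdef]
      linear_combination a * hcc

omit [FiniteDimensional (ZMod 3) V] in
theorem one_exists (hN : Nd Q W) (hW : W ≠ ⊥) : ∃ z ∈ W, polar Q z z ≠ 0 := by
  by_contra hcon
  push Not at hcon
  apply hW
  rw [eq_bot_iff]
  intro w hw
  rw [Submodule.mem_bot]
  apply hN w hw
  intro y hy
  have h := hcon (w + y) (W.add_mem hw hy)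
  rw [pol_add_left, pol_add_right, pol_add_right, hcon w hw, hcon y hy, pol_comm y w] at h
  revert h
  generalize polar Q w y = a
  revert a
  decide

theorem one_exists' (hN : Nd Q W) (hW : W ≠ ⊥) (h1 : ∀ w ∈ W, L w = 0) :
    ∃ z ∈ W, polar Q z z ≠ 0 ∧ (polar Q z z = 1 ∨ pp Q L W z = ⊥) := by
  obtain ⟨z, hz, hc⟩ := one_exists hN hW
  by_cases h2 : polar Q z z = 1
  · exact ⟨z, hz, hc, Or.inl h2⟩
  by_cases h3 : pp Q L W z = ⊥
  · exact ⟨z, hz, hc, Or.inr h3⟩
  obtain ⟨z', hz', hc'⟩ := one_exists (one_split hN hz hc h1).1 h3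
  have hz'W := (mem_pp.1 hz').1
  by_cases h4 : polar Q z' z' = 1
  · exact ⟨z', hz'W, hc', Or.inl h4⟩
  have h5 : polar Q z z' = 0 := (mem_pp.1 hz').2.1
  have h6 : polar Q (z + z') (z + z') = 1 := by
    rw [pol_add_left, pol_add_right, pol_add_right, pol_comm z' z, h5, eq_two hc h2, eq_two hc' h4]
    decide
  exact ⟨z + z', W.add_mem hz hz'W, by rw [h6]; decide, Or.inl h6⟩

end

end Cfsg.Agent.H844.Unip
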