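import Mathlib
import Cfsg.Agent.H844.UnipPeel

/-!
# Isometries of order three of quadratic spaces over `F₃` (helper844), IV: centralizers

`C` a subgroup of `O Q` (think of `E Q` times something) ... We show that an isometry commuting with `L` is the product of
an element of `E Q`, and (for the shapes with a block of length three) of sign changes of blocks.
-/

set_option autoImplicit false

namespace Cfsg.Agent.H844.Unip

open QuadraticMap Cfsg.Agent.LieClassical.OrthCore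

variable {V : Type*} [AddCommGroup V] [Module (ZMod 3) V] {Q : QuadraticForm (ZMod 3) V} {L : V →ₗ[ZMod 3] V}

/-- `g` commutes with `L` -/
def Cm (L : V →ₗ[ZMod 3] V) (g : V ≃ₗ[ZMod 3] V) : Prop := ∀ v, g (L v) = L (g v)

theorem Cm.mul {g h : V ≃ₗ[ZMod 3] V} (hg : Cm L g) (hh : Cm L h) : Cm L (g * h) := by
  intro v
  show g (h (L v)) = L (g (h v))
  rw [hh, hg]

theorem Cm.one : Cm L (1 : V ≃ₗ[ZMod 3] V) := fun _ => rfl

theorem Cm.inv {g : V ≃ₗ[ZMod 3] V} (hg : Cm L g) : Cm L g⁻¹ := by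
  intro v
  apply g.injective
  have h1 : ∀ w, g (g⁻¹ w) = w := fun w => g.apply_symm_apply w
  rw [h1, hg, h1]

theorem Sk.skew' (hL : Sk Q L) (v w : V) : polar Q v (L w) = - polar Q w (L v) := by
  rw [pol_comm v, hL.skew]

theorem Sk.QL (hL : Sk Q L) {v : V} (h : L (L v) = 0) : Q (L v) = 0 := by
  apply Q_of_polar
  rw [hL.skew, h, pol_zero_right, neg_zero]

theorem Sk.polL (hL : Sk Q L) (v : V) : polar Q (L v) v = 0 := by
  rw [pol_comm, hL.pol0]

/-- the transformation `T_v` -/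
def Tv (hL : Sk Q L) (v : V) (h : L (L v) = 0) : V ≃ₗ[ZMod 3] V := siegel Q (L v) v (hL.QL h) (hL.polL v)

theorem Tv_apply (hL : Sk Q L) (v : V) (h : L (L v) = 0) (y : V) :
    Tv hL v h y = y + polar Q (L v) y • v - polar Q v y • L v - (Q v * polar Q (L v) y) • L v := by
  rw [Tv, siegel_apply]

theorem Tv_mem (hL : Sk Q L) (v : V) (h : L (L v) = 0) : Tv hL v h ∈ E Q := siegel_mem_E _ _

theorem Tv_cm (hL : Sk Q L) (v : V) (h : L (L v) = 0) : Cm L (Tv hL v h) := by
  intro y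
  rw [Tv_apply, Tv_apply]
  simp only [map_add, map_sub, map_smul, h, smul_zero, sub_zero]
  have h1 : polar Q (L v) (L y) = 0 := by rw [pol_comm, hL.skew, h, pol_zero_right, neg_zero]
  have h2 : polar Q v (L y) = - polar Q (L v) y := by rw [hL.skew, neg_neg]
  rw [h1, h2]
  simp only [zero_smul, mul_zero, neg_smul]
  abel

theorem L_Tv (hL : Sk Q L) (v : V) (h : L (L v) = 0) (y : V) :
    L (Tv hL v h y) = L y - polar Q v (L y) • L v := by
  rw [Tv_apply]
  simp only [map_add, map_sub, map_smul, h, smul_zero, sub_zero]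
  have h2 : polar Q (L v) y = - polar Q v (L y) := hL.skew v y
  rw [h2, neg_smul]
  abel

theorem Tv_inv_eq (hL : Sk Q L) (v : V) (h : L (L v) = 0) (y : V) :
    L ((Tv hL v h * Tv hL v h) y) = L y + polar Q v (L y) • L v := by
  show L (Tv hL v h (Tv hL v h y)) = _
  rw [L_Tv, L_Tv, pol_sub_right, pol_smul_right, hL.pol0, mul_zero, sub_zero]
  have h3 := add3 (polar Q v (L y) • L v)
  linear_combination (norm := module) (-1 : ℤ) • h3

/-- **Moving**: transvections mapping `y` to `y'` modulo the kernel of `L`. -/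
theorem move (hL : Sk Q L) {y y' : V} (hy : L (L y) = 0) (hy' : L (L y') = 0) (h : polar Q y (L y') ≠ 0) :
    ∃ T : V ≃ₗ[ZMod 3] V, T ∈ E Q ∧ Cm L T ∧ L (T y) = L y' ∧
      ∀ z, polar Q y (L z) = polar Q y' (L z) → L (T z) = L z := by
  have hv : L (L (y' - y)) = 0 := by rw [map_sub, map_sub, hy, hy', sub_zero]
  have h1 : polar Q (y' - y) (L y) = - polar Q y (L y') := by
    rw [pol_sub_left, hL.pol0, sub_zero, hL.skew']
  by_cases hk : polar Q y (L y') = 1
  · refine ⟨Tv hL (y' - y) hv, Tv_mem _ _ _, Tv_cm _ _ _, ?_, ?_⟩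
    · rw [L_Tv, h1, hk, map_sub, neg_smul, one_smul]
      abel
    · intro z hz
      rw [L_Tv, pol_sub_left, hz, sub_self, zero_smul, sub_zero]
  · have hk2 : polar Q y (L y') = 2 := by
      revert h hk
      generalize polar Q y (L y') = a
      revert a
      decide
    refine ⟨Tv hL (y' - y) hv * Tv hL (y' - y) hv, mul_mem (Tv_mem _ _ _) (Tv_mem _ _ _),
      (Tv_cm _ _ _).mul (Tv_cm _ _ _), ?_, ?_⟩
    · rw [Tv_inv_eq, h1, hk2, map_sub]
      have : (-2 : ZMod 3) = 1 := by decide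
      rw [this, one_smul]
      abel
    · intro z hz
      rw [Tv_inv_eq, pol_sub_left, hz, sub_self, zero_smul, add_zero]

/-- moving in two steps -/
theorem move2 (hL : Sk Q L) {y y' : V} (hy : L (L y) = 0) (hy' : L (L y') = 0) (y'' : V) (hy'' : L (L y'') = 0)
    (h : polar Q y (L y'') ≠ 0) (h' : polar Q y'' (L y') ≠ 0) :
    ∃ T : V ≃ₗ[ZMod 3] V, T ∈ E Q ∧ Cm L T ∧ L (T y) = L y' ∧
      ∀ z, polar Q y (L z) = polar Q y' (L z) → polar Q y'' (L z) = polar Q y' (L z) → L (T z) = L z := by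
  obtain ⟨T, hT, hTc, hTy, hTz⟩ := move hL hy hy'' h
  obtain ⟨T', hT', hTc', hTy', hTz'⟩ := move hL hy'' hy' h'
  refine ⟨T' * T, mul_mem hT' hT, hTc'.mul hTc, ?_, ?_⟩
  · show L (T' (T y)) = _
    rw [← hTc', hTy, hTc', hTy']
  · intro z hz hz'
    show L (T' (T z)) = _
    rw [← hTc', hTz z (hz.trans hz'.symm), hTc', hTz' z hz']

/-- the combination of both -/
theorem move' (hL : Sk Q L) {y y' : V} (hy : L (L y) = 0) (hy' : L (L y') = 0) (y'' : V) (hy'' : L (L y'') = 0)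
    (h : polar Q y (L y') = 0 → polar Q y (L y'') ≠ 0) (h' : polar Q y'' (L y') ≠ 0) :
    ∃ T : V ≃ₗ[ZMod 3] V, T ∈ E Q ∧ Cm L T ∧ L (T y) = L y' ∧
      ∀ z, polar Q y (L z) = polar Q y' (L z) → polar Q y'' (L z) = polar Q y' (L z) → L (T z) = L z := by
  by_cases h0 : polar Q y (L y') = 0
  · exact move2 hL hy hy' y'' hy'' (h h0) h'
  · obtain ⟨T, hT, hTc, hTy, hTz⟩ := move hL hy hy' h0
    exact ⟨T, hT, hTc, hTy, fun z hz _ => hTz z hz⟩

/-! ### Unipotent elements -/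

theorem sub_pow9 (g : V ≃ₗ[ZMod 3] V)
    (h : ∀ v, (((g : V →ₗ[ZMod 3] V) - 1 : Module.End (ZMod 3) V) ^ 5) v = 0) : g ^ 9 = 1 := by
  have hc : ((g : V →ₗ[ZMod 3] V) - 1 : Module.End (ZMod 3) V) ^ 9 = (g : V →ₗ[ZMod 3] V) ^ 9 - 1 := by
    have h3 : ∀ x : Module.End (ZMod 3) V, (x - 1) ^ 3 = x ^ 3 - 1 := by
      intro x
      have e : (x - 1) ^ 3 = x ^ 3 - 3 * x ^ 2 + 3 * x - 1 := by
        have hcm : Commute x (1 : Module.End (ZMod 3) V) := Commute.one_right x
        noncomm_ring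
      have e3 : (3 : Module.End (ZMod 3) V) = 0 := by
        ext v
        have := add3 v
        show (3 : Module.End (ZMod 3) V) v = 0
        rw [show (3 : Module.End (ZMod 3) V) = 1 + 1 + 1 by norm_num]
        exact this
      rw [e, e3, zero_mul, zero_mul, sub_zero, add_zero]
    rw [show (9 : ℕ) = 3 * 3 from rfl, pow_mul, h3, h3, pow_mul]
  have h9 : ((g : V →ₗ[ZMod 3] V) - 1 : Module.End (ZMod 3) V) ^ 9 = 0 := by
    ext v
    rw [show (9 : ℕ) = 4 + 5 from rfl, pow_add, Module.End.mul_apply, h, map_zero]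
    rfl
  rw [h9] at hc
  ext v
  have h10 : ((g : V →ₗ[ZMod 3] V) ^ 9 : Module.End (ZMod 3) V) v = v := by
    have := LinearMap.congr_fun hc v
    rw [LinearMap.sub_apply, LinearMap.zero_apply] at this
    exact (sub_eq_zero.1 this.symm)
  have h11 : ∀ (n : ℕ) (v : V), (g ^ n) v = ((g : V →ₗ[ZMod 3] V) ^ n : Module.End (ZMod 3) V) v := by
    intro n
    induction n with
    | zero => intro v; rfl
    | succ n ih =>
      intro v
      rw [pow_succ, pow_succ, Module.End.mul_apply, ← ih]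
      rfl
  show (g ^ 9) v = v
  rw [h11, h10]

/-- the unipotence criterion -/
theorem unip5 {g : V ≃ₗ[ZMod 3] V} (hg : Cm L g) (h1 : ∀ v, L (L (g v - v)) = 0)
    (h2 : ∀ v, L (L v) = 0 → ∃ y k, g v - v = L y + k ∧ L k = 0)
    (h3 : ∀ k, L k = 0 → ∃ y, L (L y) = 0 ∧ g k - k = L y) : g ^ 9 = 1 := by
  apply sub_pow9
  intro v
  have hN : ∀ w, ((g : V →ₗ[ZMod 3] V) - 1 : Module.End (ZMod 3) V) w = g w - w := fun w => rfl
  have e : (((g : V →ₗ[ZMod 3] V) - 1 : Module.End (ZMod 3) V) ^ 5) v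
      = ((g : V →ₗ[ZMod 3] V) - 1 : Module.End (ZMod 3) V) (((g : V →ₗ[ZMod 3] V) - 1 : Module.End (ZMod 3) V)
        (((g : V →ₗ[ZMod 3] V) - 1 : Module.End (ZMod 3) V) (((g : V →ₗ[ZMod 3] V) - 1 : Module.End (ZMod 3) V)
        (((g : V →ₗ[ZMod 3] V) - 1 : Module.End (ZMod 3) V) v)))) := by
    simp only [pow_succ, pow_zero, one_mul, Module.End.mul_apply]
  rw [e]
  simp only [hN]
  have hcm : ∀ w, g (L w) - L w = L (g w - w) := by
    intro w
    rw [hg, map_sub]
  generalize hv1 : g v - v = v1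
  have hv1' : L (L v1) = 0 := by rw [← hv1]; exact h1 v
  obtain ⟨y, k, hyk, hk⟩ := h2 v1 hv1'
  rw [hyk]
  obtain ⟨y', hy', hk'⟩ := h3 k hk
  have e3 : g (L y + k) - (L y + k) = L ((g y - y) + y') := by
    rw [map_add, map_add, ← hk', ← hcm]
    abel
  rw [e3]
  have hy3 : L (L ((g y - y) + y')) = 0 := by
    rw [map_add, map_add, h1, hy', add_zero]
  rw [hcm]
  obtain ⟨y4, k4, hyk4, hk4⟩ := h2 _ hy3
  rw [hyk4, map_add, hk4, add_zero, hcm, hcm, h1]

/-! ### One block of length three, one pair of blocks of length two, at most one block of length one -/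

/-- generators for the shapes `3, 2², 1` and `3, 2²` (`z = 0`) -/
structure Gen3 (Q : QuadraticForm (ZMod 3) V) (L : V →ₗ[ZMod 3] V) (a u w z : V) : Prop where
  ca : polar Q a (L (L a)) ≠ 0
  LLu : L (L u) = 0
  LLw : L (L w) = 0
  Lz : L z = 0
  uw : polar Q u (L w) = 1
  gen : ∀ y, ∃ (α lam μ ζ : ZMod 3) (y' : V), y = α • a + lam • u + μ • w + ζ • z + L y'
  hz : z = 0 ∨ polar Q z z ≠ 0

theorem Gen3.LLa {a u w z : V} (h : Gen3 Q L a u w z) : L (L a) ≠ 0 := by
  intro h1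
  apply h.ca
  rw [h1, pol_zero_right]

theorem Gen3.LL {a u w z : V} (hL : Sk Q L) (h : Gen3 Q L a u w z) {α lam μ ζ : ZMod 3} {y y' : V}
    (hy : y = α • a + lam • u + μ • w + ζ • z + L y') : L (L y) = α • L (L a) := by
  rw [hy]
  simp only [map_add, map_smul, h.LLu, h.LLw, h.Lz, smul_zero, hL.cube, add_zero]

theorem Gen3.ker2 {a u w z : V} (hL : Sk Q L) (h : Gen3 Q L a u w z) {y : V} (hy : L (L y) = 0) :
    ∃ (lam μ ζ : ZMod 3) (y' : V), y = lam • u + μ • w + ζ • z + L y' := by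
  obtain ⟨α, lam, μ, ζ, y', hyy⟩ := h.gen y
  have h1 := h.LL hL hyy
  rw [hy] at h1
  have h2 : α = 0 := by
    rcases smul_eq_zero.1 h1.symm with h2 | h2
    · exact h2
    · exact absurd h2 h.LLa
  exact ⟨lam, μ, ζ, y', by rw [hyy, h2, zero_smul, zero_add]⟩

theorem Gen3.ker {a u w z : V} (hL : Sk Q L) (h : Gen3 Q L a u w z) {y : V} (hy : L y = 0) :
    ∃ (ζ : ZMod 3) (y' : V), y = ζ • z + L y' ∧ L (L y') = 0 := by
  obtain ⟨lam, μ, ζ, y', hyy⟩ := h.ker2 hL (by rw [hy, map_zero] : L (L y) = 0)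
  have h1 : lam = 0 := by
    have h2 : polar Q y (L w) = 0 := by
      have := hL.skew y w
      rw [hy, pol_zero_left] at this
      exact (neg_eq_zero.1 this.symm)
    rw [hyy] at h2
    simp only [pol_add_left, pol_smul_left, h.uw, hL.pol0] at h2
    have h3 : polar Q z (L w) = 0 := by
      have := hL.skew z w
      rw [h.Lz, pol_zero_left] at this
      exact (neg_eq_zero.1 this.symm)
    have h4 : polar Q (L y') (L w) = 0 := by rw [hL.skew, h.LLw, pol_zero_right, neg_zero]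
    rw [h3, h4] at h2
    linear_combination h2
  have h5 : μ = 0 := by
    have h2 : polar Q y (L u) = 0 := by
      have := hL.skew y u
      rw [hy, pol_zero_left] at this
      exact (neg_eq_zero.1 this.symm)
    rw [hyy] at h2
    simp only [pol_add_left, pol_smul_left, hL.pol0] at h2
    have h3 : polar Q z (L u) = 0 := by
      have := hL.skew z u
      rw [h.Lz, pol_zero_left] at this
      exact (neg_eq_zero.1 this.symm)
    have h4 : polar Q (L y') (L u) = 0 := by rw [hL.skew, h.LLu, pol_zero_right, neg_zero]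
    have h6 : polar Q w (L u) = -1 := by rw [hL.skew', h.uw]
    rw [h3, h4, h6] at h2
    linear_combination -h2
  rw [h1, h5, zero_smul, zero_smul, zero_add, zero_add] at hyy
  refine ⟨ζ, y', hyy, ?_⟩
  rw [hyy, map_add, map_smul, h.Lz, smul_zero, zero_add] at hy
  exact hy

theorem iso_pol {g : V ≃ₗ[ZMod 3] V} (hg : g ∈ O Q) (v w : V) : polar Q (g v) (g w) = polar Q v w := polar_map hg v w

theorem Gen3.uni {a u w z : V} (hL : Sk Q L) (h : Gen3 Q L a u w z) {g : V ≃ₗ[ZMod 3] V} (hg : Cm L g)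
    (hu : L (g u) = L u) (hw : L (g w) = L w) (ha : L (L (g a)) = L (L a)) (hz : ∃ s, g z = z + L s ∧ L (L s) = 0) :
    g ^ 9 = 1 := by
  obtain ⟨s, hs, hs'⟩ := hz
  have h1 : ∀ v, L (L (g v - v)) = 0 := by
    intro v
    obtain ⟨α, lam, μ, ζ, v', hv⟩ := h.gen v
    have e1 := h.LL hL hv
    have e2 : L (L (g v)) = g (L (L v)) := by rw [hg, hg]
    have e3 : g (L (L a)) = L (L a) := by rw [hg, hg, ha]
    rw [map_sub, map_sub, e2, e1, map_smul, e3, sub_self]
  refine unip5 hg h1 ?_ ?_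
  · intro v hv
    obtain ⟨lam, μ, ζ, v', hv⟩ := h.ker2 hL hv
    refine ⟨g v' - v', lam • (g u - u) + μ • (g w - w) + ζ • L s, ?_, ?_⟩
    · rw [hv]
      simp only [map_add, map_smul, hg v', hs, map_sub, smul_sub, smul_add]
      abel
    · simp only [map_add, map_smul, map_sub, hu, hw, sub_self, smul_zero, hs', add_zero]
  · intro k hk
    obtain ⟨ζ, y', hy, hy'⟩ := h.ker hL hk
    refine ⟨ζ • s + (g y' - y'), ?_, ?_⟩
    · rw [map_add, map_add, h1, map_smul, map_smul, hs', smul_zero, add_zero]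
    · rw [hy]
      simp only [map_add, map_smul, hg y', hs, map_sub, smul_add]
      abel

theorem sq_one_cases {a : ZMod 3} (h : a * a = 1) : a = 1 ∨ a = -1 := by revert a; decide

/-- **The centralizer, shapes `3, 2², 1` and `3, 2²`.** -/
theorem Gen3.split {a u w z : V} (hL : Sk Q L) (h : Gen3 Q L a u w z) {D R : V ≃ₗ[ZMod 3] V} (hD : Cm L D)
    (hDa : D a = -a) (hDu : D u = u) (hDw : D w = w) (hDz : D z = z) (hR : Cm L R) (hRa : R a = a) (hRu : R u = u)
    (hRw : R w = w) (hRz : R z = -z) {g : V ≃ₗ[ZMod 3] V} (hgO : g ∈ O Q) (hg : Cm L g) :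
    ∃ T ∈ E Q, ∃ i j : ℕ, (T * g * D ^ i * R ^ j) ^ 9 = 1 := by
  have hgu : L (L (g u)) = 0 := by rw [← hg, ← hg, h.LLu, map_zero]
  have hgw : L (L (g w)) = 0 := by rw [← hg, ← hg, h.LLw, map_zero]
  have hwu : polar Q w (L u) = -1 := by rw [hL.skew', h.uw]
  have h11 : (-1 : ZMod 3) ≠ 0 := by decide
  have h12 : (1 : ZMod 3) ≠ 0 := by decide
  -- first step
  obtain ⟨T, hT, hTc, hTu, -⟩ := move' hL hgu h.LLu w h.LLw
    (by
      intro h1 h2
      have h3 : polar Q (g u) (L (g w)) = 1 := by rw [← hg, iso_pol hgO, h.uw]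
      obtain ⟨lam, μ, ζ, s, hs⟩ := h.ker2 hL hgw
      rw [hs] at h3
      simp only [map_add, map_smul, h.Lz, smul_zero, add_zero, pol_add_right, pol_smul_right, h1, h2] at h3
      rw [← hL.polLL, hgu, pol_zero_left, mul_zero, mul_zero, add_zero, add_zero] at h3
      exact h12 h3.symm)
    (by rw [hwu]; exact h11)
  -- second step
  set g1 : V ≃ₗ[ZMod 3] V := T * g with hg1
  have hg1O : g1 ∈ O Q := mul_mem (E_le_O hT) hgO
  have hg1c : Cm L g1 := hTc.mul hg
  have hg1u : L (g1 u) = L u := hTu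
  have hg1w : L (L (g1 w)) = 0 := by rw [← hg1c, ← hg1c, h.LLw, map_zero]
  have e1 : polar Q (g1 w) (L (g1 u)) = -1 := by rw [← hg1c, iso_pol hg1O, hwu]
  obtain ⟨T', hT', hTc', hTw', hTz'⟩ := move' hL hg1w h.LLw (w + u) (by rw [map_add, map_add, h.LLw, h.LLu, add_zero])
    (by
      intro h1
      rw [map_add, pol_add_right, h1, zero_add, ← hg1u, e1]
      exact h11)
    (by rw [pol_add_left, hL.pol0, h.uw, zero_add]; exact h12)
  set g2 : V ≃ₗ[ZMod 3] V := T' * g1 with hg2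
  have hg2O : g2 ∈ O Q := mul_mem (E_le_O hT') hg1O
  have hg2c : Cm L g2 := hTc'.mul hg1c
  have hg2u : L (g2 u) = L u := by
    rw [← hg1u]
    refine hTz' (g1 u) ?_ ?_
    · rw [e1, hg1u, hwu]
    · rw [hg1u, pol_add_left, hL.pol0, add_zero]
  have hg2w : L (g2 w) = L w := hTw'
  -- the sign on `a`
  obtain ⟨ε, hε, hε'⟩ : ∃ ε : ZMod 3, ε * ε = 1 ∧ L (L (g2 a)) = ε • L (L a) := by
    obtain ⟨α, lam, μ, ζ, s, hs⟩ := h.gen (g2 a)
    have e2 := h.LL hL hs
    refine ⟨α, ?_, e2⟩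
    have e3 : polar Q (g2 a) (L (L (g2 a))) = polar Q a (L (L a)) := by
      rw [← hg2c, ← hg2c, iso_pol hg2O]
    rw [e2, pol_smul_right, ← hL.polLL, e2, pol_smul_left, pol_comm (L (L a))] at e3
    apply mul_right_cancel₀ h.ca
    rw [mul_assoc, e3, one_mul]
  -- the sign on `z`
  obtain ⟨ζ, s, hζ, hs, hs'⟩ : ∃ (ζ : ZMod 3) (s : V), ζ * ζ = 1 ∧ g2 z = ζ • z + L s ∧ L (L s) = 0 := by
    rcases h.hz with hz | hz
    · exact ⟨1, 0, by decide, by rw [hz, map_zero, smul_zero, map_zero, add_zero], by rw [map_zero, map_zero]⟩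
    · have e4 : L (g2 z) = 0 := by rw [← hg2c, h.Lz, map_zero]
      obtain ⟨ζ, s, hs, hs'⟩ := h.ker hL e4
      refine ⟨ζ, s, ?_, hs, hs'⟩
      have e5 : polar Q (g2 z) (g2 z) = polar Q z z := iso_pol hg2O z z
      have e6 : polar Q z (L s) = 0 := by
        have := hL.skew z s
        rw [h.Lz, pol_zero_left] at this
        exact (neg_eq_zero.1 this.symm)
      have e7 : polar Q (L s) z = 0 := by rw [pol_comm, e6]
      have e8 : polar Q (L s) (L s) = 0 := by rw [hL.skew, hs', pol_zero_right, neg_zero]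
      rw [hs] at e5
      simp only [pol_add_left, pol_add_right, pol_smul_left, pol_smul_right, e6, e7, e8] at e5
      apply mul_right_cancel₀ hz
      linear_combination e5
  -- adjust the signs
  have key : ∀ (i j : ℕ), ε * (-1) ^ i = 1 → (ζ * (-1) ^ j = 1) → ((T' * T) * g * D ^ i * R ^ j) ^ 9 = 1 := by
    intro i j hi hj
    have hDi : ∀ i : ℕ, Cm L (D ^ i) ∧ (D ^ i) a = ((-1 : ZMod 3) ^ i) • a ∧ (D ^ i) u = u ∧ (D ^ i) w = w ∧ (D ^ i) z = z := by
      intro i
      induction i with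
      | zero => exact ⟨Cm.one, by rw [pow_zero, pow_zero, one_smul]; rfl, rfl, rfl, rfl⟩
      | succ i ih =>
        obtain ⟨i1, i2, i3, i4, i5⟩ := ih
        have e9 : ∀ v, (D ^ (i + 1)) v = D ((D ^ i) v) := by
          intro v; rw [pow_succ']; rfl
        refine ⟨by rw [pow_succ']; exact hD.mul i1, ?_, ?_, ?_, ?_⟩
        · rw [e9, i2, map_smul, hDa, pow_succ]
          rw [mul_neg, mul_one, neg_smul, smul_neg]
        · rw [e9, i3, hDu]
        · rw [e9, i4, hDw]
        · rw [e9, i5, hDz]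
    have hRi : ∀ i : ℕ, Cm L (R ^ i) ∧ (R ^ i) a = a ∧ (R ^ i) u = u ∧ (R ^ i) w = w ∧ (R ^ i) z = ((-1 : ZMod 3) ^ i) • z := by
      intro i
      induction i with
      | zero => exact ⟨Cm.one, rfl, rfl, rfl, by rw [pow_zero, pow_zero, one_smul]; rfl⟩
      | succ i ih =>
        obtain ⟨i1, i2, i3, i4, i5⟩ := ih
        have e9 : ∀ v, (R ^ (i + 1)) v = R ((R ^ i) v) := by
          intro v; rw [pow_succ']; rfl
        refine ⟨by rw [pow_succ']; exact hR.mul i1, ?_, ?_, ?_, ?_⟩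
        · rw [e9, i2, hRa]
        · rw [e9, i3, hRu]
        · rw [e9, i4, hRw]
        · rw [e9, i5, map_smul, hRz, pow_succ]
          rw [mul_neg, mul_one, neg_smul, smul_neg]
    obtain ⟨d1, d2, d3, d4, d5⟩ := hDi i
    obtain ⟨r1, r2, r3, r4, r5⟩ := hRi j
    have e10 : ∀ v, ((T' * T) * g * D ^ i * R ^ j) v = g2 ((D ^ i) ((R ^ j) v)) := fun v => rfl
    refine h.uni hL (g := (T' * T) * g * D ^ i * R ^ j) ?_ ?_ ?_ ?_ ?_
    · exact (((hTc'.mul hTc).mul hg).mul d1).mul r1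
    · rw [e10, r3, d3, hg2u]
    · rw [e10, r4, d4, hg2w]
    · rw [e10, r2, d2, map_smul, map_smul, map_smul, hε', smul_smul, mul_comm, hi, one_smul]
    · refine ⟨((-1 : ZMod 3) ^ j) • s, ?_, ?_⟩
      · rw [e10, r5, map_smul, d5, map_smul, hs, smul_add, smul_smul, mul_comm, hj, one_smul, map_smul]
      · rw [map_smul, map_smul, hs', smul_zero]
  refine ⟨T' * T, mul_mem hT' hT, ?_⟩
  rcases sq_one_cases hε with h1 | h1 <;> rcases sq_one_cases hζ with h2 | h2
  · exact ⟨0, 0, key 0 0 (by rw [h1]; decide) (by rw [h2]; decide)⟩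
  · exact ⟨0, 1, key 0 1 (by rw [h1]; decide) (by rw [h2]; decide)⟩
  · exact ⟨1, 0, key 1 0 (by rw [h1]; decide) (by rw [h2]; decide)⟩
  · exact ⟨1, 1, key 1 1 (by rw [h1]; decide) (by rw [h2]; decide)⟩

/-! ### Two pairs of blocks of length two -/

/-- generators for the shape `2⁴` -/
structure Gen4 (Q : QuadraticForm (ZMod 3) V) (L : V →ₗ[ZMod 3] V) (u w u' w' : V) : Prop where
  LL : ∀ v, L (L v) = 0
  uw : polar Q u (L w) = 1
  uw' : polar Q u' (L w') = 1
  uu' : polar Q u (L u') = 0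
  uw'' : polar Q u (L w') = 0
  wu' : polar Q w (L u') = 0
  ww' : polar Q w (L w') = 0
  gen : ∀ y, ∃ (a b c d : ZMod 3) (y' : V), y = a • u + b • w + c • u' + d • w' + L y'

theorem Gen4.ker {u w u' w' : V} (hL : Sk Q L) (h : Gen4 Q L u w u' w') {y : V} (hy : L y = 0) :
    ∃ y', y = L y' := by
  obtain ⟨a, b, c, d, y', hyy⟩ := h.gen y
  have hp : ∀ x, polar Q y (L x) = 0 := by
    intro x
    have := hL.skew y x
    rw [hy, pol_zero_left] at this
    exact (neg_eq_zero.1 this.symm)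
  have hp' : ∀ x, polar Q (L y') (L x) = 0 := by
    intro x
    rw [hL.skew, h.LL, pol_zero_right, neg_zero]
  have wu : polar Q w (L u) = -1 := by rw [hL.skew', h.uw]
  have wu2 : polar Q w' (L u') = -1 := by rw [hL.skew', h.uw']
  have u'u : polar Q u' (L u) = 0 := by rw [hL.skew', h.uu', neg_zero]
  have w'u : polar Q w' (L u) = 0 := by rw [hL.skew', h.uw'', neg_zero]
  have u'w : polar Q u' (L w) = 0 := by rw [hL.skew', h.wu', neg_zero]
  have w'w : polar Q w' (L w) = 0 := by rw [hL.skew', h.ww', neg_zero]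
  have ha : a = 0 := by
    have h2 := hp w
    rw [hyy] at h2
    simp only [pol_add_left, pol_smul_left, h.uw, hL.pol0, u'w, w'w, hp'] at h2
    linear_combination h2
  have hb : b = 0 := by
    have h2 := hp u
    rw [hyy] at h2
    simp only [pol_add_left, pol_smul_left, wu, hL.pol0, u'u, w'u, hp'] at h2
    linear_combination -h2
  have hc : c = 0 := by
    have h2 := hp w'
    rw [hyy] at h2
    simp only [pol_add_left, pol_smul_left, h.uw', hL.pol0, h.uw'', h.ww', hp'] at h2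
    linear_combination h2
  have hd : d = 0 := by
    have h2 := hp u'
    rw [hyy] at h2
    simp only [pol_add_left, pol_smul_left, wu2, hL.pol0, h.uu', h.wu', hp'] at h2
    linear_combination -h2
  refine ⟨y', ?_⟩
  rw [hyy, ha, hb, hc, hd, zero_smul, zero_smul, zero_smul, zero_smul, zero_add, zero_add, zero_add, zero_add]

/-- **The centralizer, shape `2⁴`.** -/
theorem Gen4.split {u w u' w' : V} (hL : Sk Q L) (h : Gen4 Q L u w u' w') {g : V ≃ₗ[ZMod 3] V} (hgO : g ∈ O Q)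
    (hg : Cm L g) : ∃ T ∈ E Q, (T * g) ^ 9 = 1 := by
  have h11 : (-1 : ZMod 3) ≠ 0 := by decide
  have h12 : (1 : ZMod 3) ≠ 0 := by decide
  have wu : polar Q w (L u) = -1 := by rw [hL.skew', h.uw]
  have wu2 : polar Q w' (L u') = -1 := by rw [hL.skew', h.uw']
  have u'u : polar Q u' (L u) = 0 := by rw [hL.skew', h.uu', neg_zero]
  have w'u : polar Q w' (L u) = 0 := by rw [hL.skew', h.uw'', neg_zero]
  have u'w : polar Q u' (L w) = 0 := by rw [hL.skew', h.wu', neg_zero]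
  have w'w : polar Q w' (L w) = 0 := by rw [hL.skew', h.ww', neg_zero]
  -- nondegeneracy on the generators
  have hnd : ∀ y x, polar Q y (L x) ≠ 0 → polar Q y (L u) = 0 → polar Q y (L w) = 0 → polar Q y (L u') = 0 →
      polar Q y (L w') = 0 → False := by
    intro y x hx h1 h2 h3 h4
    obtain ⟨a, b, c, d, x', hxx⟩ := h.gen x
    apply hx
    rw [hxx]
    simp only [map_add, map_smul, h.LL, add_zero, pol_add_right, pol_smul_right, h1, h2, h3, h4, mul_zero]
  -- step 1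
  obtain ⟨T1, hT1, hT1c, hT1u⟩ : ∃ T : V ≃ₗ[ZMod 3] V, T ∈ E Q ∧ Cm L T ∧ L (T (g u)) = L u := by
    by_cases h0 : polar Q (g u) (L w) = 0
    · -- another generator
      have h1 : polar Q (g u) (L (g w)) = 1 := by rw [← hg, iso_pol hgO, h.uw]
      by_cases h2 : polar Q (g u) (L u) = 0
      · have h3 : ∃ q, polar Q (g u) (L q) ≠ 0 ∧ polar Q q (L u) = 0 := by
          by_contra hcon
          push Not at hcon
          refine hnd (g u) (g w) (by rw [h1]; exact h12) h2 h0 ?_ ?_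
          · by_contra h4
            exact hcon u' h4 u'u
          · by_contra h4
            exact hcon w' h4 w'u
        obtain ⟨q, hq, hq'⟩ := h3
        obtain ⟨T, hT, hTc, hTu, -⟩ := move2 hL (h.LL (g u)) (h.LL u) (q + w) (h.LL _)
          (by rw [map_add, pol_add_right, h0, add_zero]; exact hq)
          (by rw [pol_add_left, hq', wu, zero_add]; exact h11)
        exact ⟨T, hT, hTc, hTu⟩
      · obtain ⟨T, hT, hTc, hTu, -⟩ := move hL (h.LL (g u)) (h.LL u) h2
        exact ⟨T, hT, hTc, hTu⟩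
    · obtain ⟨T, hT, hTc, hTu, -⟩ := move2 hL (h.LL (g u)) (h.LL u) w (h.LL _) h0 (by rw [wu]; exact h11)
      exact ⟨T, hT, hTc, hTu⟩
  set g1 : V ≃ₗ[ZMod 3] V := T1 * g with hg1
  have hg1O : g1 ∈ O Q := mul_mem (E_le_O hT1) hgO
  have hg1c : Cm L g1 := hT1c.mul hg
  have hg1u : L (g1 u) = L u := hT1u
  -- step 2
  obtain ⟨T2, hT2, hT2c, hT2w, hT2z⟩ := move' hL (h.LL (g1 w)) (h.LL w) (w + u) (h.LL _)
    (by
      intro h1
      rw [map_add, pol_add_right, h1, zero_add, ← hg1u, ← hg1c, iso_pol hg1O, wu]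
      exact h11)
    (by rw [pol_add_left, hL.pol0, h.uw, zero_add]; exact h12)
  set g2 : V ≃ₗ[ZMod 3] V := T2 * g1 with hg2
  have hg2O : g2 ∈ O Q := mul_mem (E_le_O hT2) hg1O
  have hg2c : Cm L g2 := hT2c.mul hg1c
  have hg2w : L (g2 w) = L w := hT2w
  have hg2u : L (g2 u) = L u := by
    rw [← hg1u]
    refine hT2z (g1 u) ?_ ?_
    · rw [← hg1c, iso_pol hg1O, hg1c, hg1u]
    · rw [hg1u, pol_add_left, hL.pol0, add_zero]
  -- pairings of images
  have hpr : ∀ (k : V ≃ₗ[ZMod 3] V), k ∈ O Q → Cm L k → ∀ x y, polar Q (k x) (L (k y)) = polar Q x (L y) := by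
    intro k hk hkc x y
    rw [← hkc, iso_pol hk]
  -- step 3
  have e1 : polar Q (g2 u') (L u) = 0 := by rw [← hg2u, hpr g2 hg2O hg2c, u'u]
  have e2 : polar Q (g2 u') (L w) = 0 := by rw [← hg2w, hpr g2 hg2O hg2c, u'w]
  obtain ⟨T3, hT3, hT3c, hT3u, hT3z⟩ := move' hL (h.LL (g2 u')) (h.LL u') w' (h.LL _)
    (by
      intro h1 h2
      exact hnd (g2 u') (g2 w') (by rw [hpr g2 hg2O hg2c, h.uw']; exact h12) e1 e2 h1 h2)
    (by rw [wu2]; exact h11)
  set g3 : V ≃ₗ[ZMod 3] V := T3 * g2 with hg3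
  have hg3O : g3 ∈ O Q := mul_mem (E_le_O hT3) hg2O
  have hg3c : Cm L g3 := hT3c.mul hg2c
  have hg3u' : L (g3 u') = L u' := hT3u
  have hg3u : L (g3 u) = L u := by
    rw [← hg2u]
    refine hT3z (g2 u) ?_ ?_
    · rw [hpr g2 hg2O hg2c, hg2u]
    · rw [hg2u, w'u, u'u]
  have hg3w : L (g3 w) = L w := by
    rw [← hg2w]
    refine hT3z (g2 w) ?_ ?_
    · rw [hpr g2 hg2O hg2c, hg2w]
    · rw [hg2w, w'w, u'w]
  -- step 4
  obtain ⟨T4, hT4, hT4c, hT4w, hT4z⟩ := move' hL (h.LL (g3 w')) (h.LL w') (w' + u') (h.LL _)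
    (by
      intro h1
      rw [map_add, pol_add_right, h1, zero_add, ← hg3u', hpr g3 hg3O hg3c, wu2]
      exact h11)
    (by rw [pol_add_left, hL.pol0, h.uw', zero_add]; exact h12)
  set g4 : V ≃ₗ[ZMod 3] V := T4 * g3 with hg4
  have hg4O : g4 ∈ O Q := mul_mem (E_le_O hT4) hg3O
  have hg4c : Cm L g4 := hT4c.mul hg3c
  have hg4w' : L (g4 w') = L w' := hT4w
  have hg4u' : L (g4 u') = L u' := by
    rw [← hg3u']
    refine hT4z (g3 u') ?_ ?_
    · rw [hpr g3 hg3O hg3c, hg3u']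
    · rw [hg3u', pol_add_left, hL.pol0, add_zero]
  have hg4u : L (g4 u) = L u := by
    rw [← hg3u]
    refine hT4z (g3 u) ?_ ?_
    · rw [hpr g3 hg3O hg3c, hg3u]
    · rw [hg3u, pol_add_left, w'u, u'u, add_zero]
  have hg4w : L (g4 w) = L w := by
    rw [← hg3w]
    refine hT4z (g3 w) ?_ ?_
    · rw [hpr g3 hg3O hg3c, hg3w]
    · rw [hg3w, pol_add_left, w'w, u'w, add_zero]
  -- the end
  have hfin : ∀ v, L (g4 v - v) = 0 := by
    intro v
    obtain ⟨a, b, c, d, v', hv⟩ := h.gen v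
    rw [hv]
    simp only [map_add, map_smul, map_sub, hg4u, hg4w, hg4u', hg4w', hg4c v', h.LL]
    abel
  refine ⟨T4 * T3 * T2 * T1, mul_mem (mul_mem (mul_mem hT4 hT3) hT2) hT1, ?_⟩
  have e9 : T4 * T3 * T2 * T1 * g = g4 := by
    rw [hg4, hg3, hg2, hg1]
    simp only [mul_assoc]
  rw [e9]
  refine unip5 hg4c ?_ ?_ ?_
  · intro v
    rw [hfin, map_zero]
  · intro v _
    exact ⟨0, g4 v - v, by rw [map_zero, zero_add], hfin v⟩
  · intro k hk
    obtain ⟨y', hy'⟩ := h.ker hL (hfin k)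
    exact ⟨y', h.LL _, hy'⟩

end Cfsg.Agent.H844.Unip
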