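import Mathlib
import Cfsg.Agent.H844.UnipPeel

/-!
# Isometries of order three of quadratic spaces over `F₃` (helper844), III: classification in dimensions 7 and 8
-/

set_option autoImplicit false

namespace Cfsg.Agent.H844.Unip

open QuadraticMap Cfsg.Agent.LieClassical.OrthCore

variable {V : Type*} [AddCommGroup V] [Module (ZMod 3) V] {Q : QuadraticForm (ZMod 3) V} {L : V →ₗ[ZMod 3] V}

/-- a frame of the subspace `W` -/
structure FrW (Q : QuadraticForm (ZMod 3) V) (L : V →ₗ[ZMod 3] V) (W : Submodule (ZMod 3) V) (S : Shp)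
    (τ : Fin S.m → ZMod 3) (p : Fin S.m → V) : Prop where
  fr : Fr Q L S τ p
  ok : S.Ok
  mem : ∀ i, p i ∈ W
  dim : S.dim = Module.finrank (ZMod 3) W

theorem Shp.dim_bl (S : Shp) (l : ℕ) : (S.bl l).dim = S.dim + l := by
  show ∑ i : Fin (S.m + 1), (Fin.cons l S.l : Fin (S.m + 1) → ℕ) i = _
  rw [Fin.sum_univ_succ, Fin.cons_zero]
  simp only [Fin.cons_succ]
  rw [add_comm]
  rfl

theorem Shp.dim_two (S : Shp) : S.two.dim = S.dim + 4 := by
  show ∑ i : Fin (S.m + 2), (Fin.cons 2 (Fin.cons 2 S.l) : Fin (S.m + 2) → ℕ) i = _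
  rw [Fin.sum_univ_succ, Fin.cons_zero]
  simp only [Fin.cons_succ]
  rw [Fin.sum_univ_succ, Fin.cons_zero]
  simp only [Fin.cons_succ]
  have : S.dim = ∑ i, S.l i := rfl
  omega

theorem Sk.pow_three (hL : Sk Q L) (k : ℕ) (hk : 3 ≤ k) (v : V) : (L ^ k) v = 0 := by
  obtain ⟨j, rfl⟩ : ∃ j, k = j + 3 := ⟨k - 3, by omega⟩
  rw [pow_add, Module.End.mul_apply]
  have : (L ^ 3) v = 0 := by
    rw [pow_succ', pow_succ', pow_one, Module.End.mul_apply, Module.End.mul_apply]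
    exact hL.cube v
  rw [this, map_zero]

theorem pow_two_apply (v : V) : (L ^ 2) v = L (L v) := by rw [pow_two, Module.End.mul_apply]

/-- a property of all powers -/
theorem forall_pow (hL : Sk Q L) {v w : V} {P : ℕ → ZMod 3 → Prop} (h0 : P 0 (polar Q v w)) (h1 : P 1 (polar Q v (L w)))
    (h2 : P 2 (polar Q v (L (L w)))) (h3 : ∀ k, 3 ≤ k → P k 0) (k : ℕ) : P k (polar Q v ((L ^ k) w)) := by
  rcases k with _ | _ | _ | k
  · exact h0
  · rw [zero_add, pow_one]; exact h1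
  · rw [show 0 + 1 + 1 = 2 from rfl, pow_two_apply]; exact h2
  · rw [hL.pow_three _ (by omega), pol_zero_right]
    exact h3 _ (by omega)

variable [FiniteDimensional (ZMod 3) V] {W : Submodule (ZMod 3) V}

omit [FiniteDimensional (ZMod 3) V] in
theorem perp_pow (hL : Sk Q L) {v y : V} (hy : y ∈ pp Q L W v) (k : ℕ) : polar Q v ((L ^ k) y) = 0 := by
  obtain ⟨-, h1, h2, h3⟩ := mem_pp.1 hy
  exact forall_pow hL (P := fun _ a => a = 0) h1 h2 h3 (fun _ _ => rfl) k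

theorem FrW.three (hL : Sk Q L) (hW : Iv L W) (hN : Nd Q W) {v : V} (hv : v ∈ W) (hQ : Q v = 0)
    (hc : polar Q v (L (L v)) ≠ 0) {S : Shp} {τ : Fin S.m → ZMod 3} {p : Fin S.m → V}
    (hp : FrW Q L (pp Q L W v) S τ p) :
    FrW Q L W (S.bl 3) (Fin.cons (polar Q v (L (L v))) τ) (Fin.cons v p : Fin (S.m + 1) → V) where
  fr := by
    refine hp.fr.bl hL hc (hL.pow_three 3 le_rfl v) ?_ (fun i k => perp_pow hL (hp.mem i) k)
    refine forall_pow hL (P := fun k a => a = if k + 1 = 3 then polar Q v (L (L v)) else 0) ?_ ?_ ?_ ?_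
    · rw [if_neg (by omega)]; exact polar_self0 v hQ
    · rw [if_neg (by omega)]; exact hL.pol0 v
    · rw [if_pos rfl]
    · intro k hk
      rw [if_neg (by omega)]
  ok := hp.ok.bl (by omega)
  mem i := by
    refine Fin.cases ?_ (fun i => ?_) i
    · exact hv
    · exact (mem_pp.1 (hp.mem i)).1
  dim := by rw [Shp.dim_bl, hp.dim, (three_split hL hW hN hv hQ hc).2]

theorem FrW.two (hL : Sk Q L) (hW : Iv L W) (hN : Nd Q W) (h2 : ∀ w ∈ W, L (L w) = 0) {u w : V} (hu : u ∈ W)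
    (hw : w ∈ W) (hQu : Q u = 0) (hQw : Q w = 0) (huw : polar Q u w = 0) (huw1 : polar Q u (L w) = 1)
    {S : Shp} {τ : Fin S.m → ZMod 3} {p : Fin S.m → V} (hp : FrW Q L (pp Q L (pp Q L W u) w) S τ p) :
    FrW Q L W S.two (Fin.cons 1 (Fin.cons (-1) τ : Fin (S.m + 1) → ZMod 3))
      (Fin.cons u (Fin.cons w p : Fin (S.m + 1) → V) : Fin (S.m + 2) → V) where
  fr := by
    have hLLu := h2 u hu
    have hLLw := h2 w hw
    refine hp.fr.two hL (by rw [pow_two_apply, hLLu]) (by rw [pow_two_apply, hLLw]) ?_ ?_ ?_ ?_ ?_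
    · refine forall_pow hL (P := fun k a => a = 0) (polar_self0 u hQu) (hL.pol0 u) ?_ (fun _ _ => rfl)
      rw [hLLu, pol_zero_right]
    · refine forall_pow hL (P := fun k a => a = 0) (polar_self0 w hQw) (hL.pol0 w) ?_ (fun _ _ => rfl)
      rw [hLLw, pol_zero_right]
    · refine forall_pow hL (P := fun k a => a = if k = 1 then 1 else 0) ?_ ?_ ?_ ?_
      · rw [if_neg (by omega)]; exact huw
      · rw [if_pos rfl]; exact huw1
      · rw [if_neg (by omega), hLLw, pol_zero_right]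
      · intro k hk
        rw [if_neg (by omega)]
    · exact fun i k => perp_pow hL (mem_pp.1 (hp.mem i)).1 k
    · exact fun i k => perp_pow hL (hp.mem i) k
  ok := hp.ok.two
  mem i := by
    refine Fin.cases ?_ (fun i => Fin.cases ?_ (fun i => ?_) i) i
    · exact hu
    · exact hw
    · exact (mem_pp.1 (mem_pp.1 (hp.mem i)).1).1
  dim := by rw [Shp.dim_two, hp.dim, (two_split hL hW hN h2 hu hw hQu hQw huw huw1).2]

theorem FrW.one (hL : Sk Q L) (hN : Nd Q W) {z : V} (hz : z ∈ W) (hc : polar Q z z ≠ 0) (h1 : ∀ w ∈ W, L w = 0)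
    {S : Shp} {τ : Fin S.m → ZMod 3} {p : Fin S.m → V} (hp : FrW Q L (pp Q L W z) S τ p) :
    FrW Q L W (S.bl 1) (Fin.cons (polar Q z z) τ) (Fin.cons z p : Fin (S.m + 1) → V) where
  fr := by
    have hLz := h1 z hz
    refine hp.fr.bl hL hc (by rw [pow_one, hLz]) ?_ (fun i k => perp_pow hL (hp.mem i) k)
    refine forall_pow hL (P := fun k a => a = if k + 1 = 1 then polar Q z z else 0) ?_ ?_ ?_ ?_
    · rw [if_pos rfl]
    · rw [if_neg (by omega), hLz, pol_zero_right]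
    · rw [if_neg (by omega), hLz, map_zero, pol_zero_right]
    · intro k hk
      rw [if_neg (by omega)]
  ok := hp.ok.bl (by omega)
  mem i := by
    refine Fin.cases ?_ (fun i => ?_) i
    · exact hz
    · exact (mem_pp.1 (hp.mem i)).1
  dim := by rw [Shp.dim_bl, hp.dim, (one_split hN hz hc h1).2]

omit [FiniteDimensional (ZMod 3) V] in
theorem FrW.nil (h : Module.finrank (ZMod 3) W = 0) : FrW Q L W Shp.nil Fin.elim0 Fin.elim0 where
  fr := Fr.nil
  ok := Shp.nil_ok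
  mem i := i.elim0
  dim := h.symm

/-- `n` blocks of length one -/
def ones : ℕ → Shp
  | 0 => Shp.nil
  | n + 1 => (ones n).bl 1

/-- the values `1, …, 1, d` -/
def onesτ : (n : ℕ) → ZMod 3 → Fin (ones (n + 1)).m → ZMod 3
  | 0, d => Fin.cons d Fin.elim0
  | n + 1, d => Fin.cons 1 (onesτ n d)

theorem no3 (hL : Sk Q L) (hW : Iv L W) (hN : Nd Q W) (h : Module.finrank (ZMod 3) W < 3) :
    ∀ w ∈ W, L (L w) = 0 := by
  by_contra hcon
  push Not at hcon
  obtain ⟨v, hv, hQ, hc⟩ := three_exists hL hW hN hcon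
  have := (three_split hL hW hN hv hQ hc).2
  omega

theorem no2 (hL : Sk Q L) (hW : Iv L W) (hN : Nd Q W) (h2 : ∀ w ∈ W, L (L w) = 0)
    (h : Module.finrank (ZMod 3) W < 4) : ∀ w ∈ W, L w = 0 := by
  by_contra hcon
  push Not at hcon
  obtain ⟨u, hu, w, hw, hQu, hQw, huw, huw1⟩ := two_exists hL hW hN h2 hcon
  have := (two_split hL hW hN h2 hu hw hQu hQw huw huw1).2
  omega

theorem ones_exists (hL : Sk Q L) (n : ℕ) : ∀ (W : Submodule (ZMod 3) V), Nd Q W → (∀ w ∈ W, L w = 0) →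
    Module.finrank (ZMod 3) W = n + 1 → ∃ d p, FrW Q L W (ones (n + 1)) (onesτ n d) p := by
  induction n with
  | zero =>
    intro W hN h1 hd
    have hW : W ≠ ⊥ := by
      rintro rfl
      rw [finrank_bot] at hd
      omega
    obtain ⟨z, hz, hc, -⟩ := one_exists' hN hW h1
    have h2 := (one_split hN hz hc h1).2
    exact ⟨polar Q z z, _, FrW.one hL hN hz hc h1 (FrW.nil (by omega))⟩
  | succ n ih =>
    intro W hN h1 hd
    have hW : W ≠ ⊥ := by
      rintro rfl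
      rw [finrank_bot] at hd
      omega
    obtain ⟨z, hz, hc, h3⟩ := one_exists' hN hW h1
    have h2 := one_split hN hz hc h1
    have h4 : polar Q z z = 1 := by
      rcases h3 with h3 | h3
      · exact h3
      · rw [h3, finrank_bot] at h2
        omega
    obtain ⟨d, p, hp⟩ := ih (pp Q L W z) h2.1 (fun w hw => h1 w (mem_pp.1 hw).1) (by omega)
    have h5 := FrW.one hL hN hz hc h1 hp
    rw [h4] at h5
    exact ⟨d, _, h5⟩

/-! ### The shapes -/

def shA : Shp := (((ones 1).bl 3).bl 3)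
def shB : Shp := ((Shp.nil.two).bl 3)
def shC : Shp := ((ones 4).bl 3)
def shD : Shp := ((ones 3).two)

def shE : Shp := (((ones 2).bl 3).bl 3)
def shF : Shp := (((ones 1).two).bl 3)
def shG : Shp := ((ones 5).bl 3)
def shH : Shp := (Shp.nil.two.two)
def shI : Shp := ((ones 4).two)

def tA (c d : ZMod 3) : Fin shA.m → ZMod 3 := Fin.cons 1 (Fin.cons c (onesτ 0 d) : Fin 2 → ZMod 3)
def tB (c : ZMod 3) : Fin shB.m → ZMod 3 := Fin.cons c (Fin.cons 1 (Fin.cons (-1) Fin.elim0) : Fin 2 → ZMod 3)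
def tC (c d : ZMod 3) : Fin shC.m → ZMod 3 := Fin.cons c (onesτ 3 d)
def tD (d : ZMod 3) : Fin shD.m → ZMod 3 := Fin.cons 1 (Fin.cons (-1) (onesτ 2 d) : Fin 4 → ZMod 3)

def tE (c d : ZMod 3) : Fin shE.m → ZMod 3 := Fin.cons 1 (Fin.cons c (onesτ 1 d) : Fin 3 → ZMod 3)
def tF (c d : ZMod 3) : Fin shF.m → ZMod 3 :=
  Fin.cons c (Fin.cons 1 (Fin.cons (-1) (onesτ 0 d) : Fin 2 → ZMod 3) : Fin 3 → ZMod 3)
def tG (c d : ZMod 3) : Fin shG.m → ZMod 3 := Fin.cons c (onesτ 4 d)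
def tH : Fin shH.m → ZMod 3 :=
  Fin.cons 1 (Fin.cons (-1) (Fin.cons 1 (Fin.cons (-1) Fin.elim0)  : Fin 2 → ZMod 3) : Fin 3 → ZMod 3)
def tI (d : ZMod 3) : Fin shI.m → ZMod 3 := Fin.cons 1 (Fin.cons (-1) (onesτ 3 d) : Fin 5 → ZMod 3)

omit [FiniteDimensional (ZMod 3) V] in
theorem nd_top (h : ∀ x : V, (∀ y : V, polar Q x y = 0) → x = 0) : Nd Q (⊤ : Submodule (ZMod 3) V) :=
  fun w _ hw => h w fun y => hw y trivial

/-- **Classification in dimension 7.** -/
theorem class7 (hL : Sk Q L) (hN : Nd Q (⊤ : Submodule (ZMod 3) V)) (hd : Module.finrank (ZMod 3) V = 7)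
    (h0 : ∃ w, L w ≠ 0) :
    (∃ c d p, FrW Q L ⊤ shA (tA c d) p) ∨ (∃ c p, FrW Q L ⊤ shB (tB c) p) ∨ (∃ c d p, FrW Q L ⊤ shC (tC c d) p) ∨
      (∃ d p, FrW Q L ⊤ shD (tD d) p) := by
  have hW : Iv L (⊤ : Submodule (ZMod 3) V) := fun _ _ => trivial
  have hd' : Module.finrank (ZMod 3) (⊤ : Submodule (ZMod 3) V) = 7 := by rw [finrank_top, hd]
  by_cases h3 : ∃ w ∈ (⊤ : Submodule (ZMod 3) V), L (L w) ≠ 0
  · obtain ⟨v, hv, hQ, hc, hc'⟩ := three_exists' hL hW hN h3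
    obtain ⟨hN1, hd1⟩ := three_split hL hW hN hv hQ hc
    have hW1 := pp_iv hL hW v
    by_cases h4 : ∃ w ∈ pp Q L ⊤ v, L (L w) ≠ 0
    · left
      have hc1 : polar Q v (L (L v)) = 1 := by
        rcases hc' with h | h
        · exact h
        · obtain ⟨w, hw, hw'⟩ := h4
          exact absurd (h w hw) hw'
      obtain ⟨v', hv', hQ', hcc⟩ := three_exists hL hW1 hN1 h4
      obtain ⟨hN2, hd2⟩ := three_split hL hW1 hN1 hv' hQ' hcc
      have hW2 := pp_iv hL hW1 v'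
      have h5 := no3 hL hW2 hN2 (by omega)
      have h6 := no2 hL hW2 hN2 h5 (by omega)
      obtain ⟨d, p, hp⟩ := ones_exists hL 0 _ hN2 h6 (by omega)
      have h7 := (hp.three hL hW1 hN1 hv' hQ' hcc).three hL hW hN hv hQ hc
      rw [hc1] at h7
      exact ⟨_, d, _, h7⟩
    · push Not at h4
      by_cases h5 : ∃ w ∈ pp Q L ⊤ v, L w ≠ 0
      · right; left
        obtain ⟨u, hu, w, hw, hQu, hQw, huw, huw1⟩ := two_exists hL hW1 hN1 h4 h5
        have hd2 := (two_split hL hW1 hN1 h4 hu hw hQu hQw huw huw1).2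
        exact ⟨_, _, (FrW.two hL hW1 hN1 h4 hu hw hQu hQw huw huw1 (FrW.nil (by omega))).three hL hW hN hv hQ hc⟩
      · push Not at h5
        right; right; left
        obtain ⟨d, p, hp⟩ := ones_exists hL 3 _ hN1 h5 (by omega)
        exact ⟨_, d, _, hp.three hL hW hN hv hQ hc⟩
  · push Not at h3
    right; right; right
    obtain ⟨w0, hw0⟩ := h0
    obtain ⟨u, hu, w, hw, hQu, hQw, huw, huw1⟩ := two_exists hL hW hN h3 ⟨w0, trivial, hw0⟩
    obtain ⟨hN1, hd1⟩ := two_split hL hW hN h3 hu hw hQu hQw huw huw1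
    have hW1 := pp_iv hL (pp_iv hL hW u) w
    have h4 := no2 hL hW1 hN1 (fun y _ => h3 y trivial) (by omega)
    obtain ⟨d, p, hp⟩ := ones_exists hL 2 _ hN1 h4 (by omega)
    exact ⟨d, _, FrW.two hL hW hN h3 hu hw hQu hQw huw huw1 hp⟩

/-- **Classification in dimension 8.** -/
theorem class8 (hL : Sk Q L) (hN : Nd Q (⊤ : Submodule (ZMod 3) V)) (hd : Module.finrank (ZMod 3) V = 8)
    (h0 : ∃ w, L w ≠ 0) :
    (∃ c d p, FrW Q L ⊤ shE (tE c d) p) ∨ (∃ c d p, FrW Q L ⊤ shF (tF c d) p) ∨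
      (∃ c d p, FrW Q L ⊤ shG (tG c d) p) ∨ (∃ p, FrW Q L ⊤ shH tH p) ∨ (∃ d p, FrW Q L ⊤ shI (tI d) p) := by
  have hW : Iv L (⊤ : Submodule (ZMod 3) V) := fun _ _ => trivial
  have hd' : Module.finrank (ZMod 3) (⊤ : Submodule (ZMod 3) V) = 8 := by rw [finrank_top, hd]
  by_cases h3 : ∃ w ∈ (⊤ : Submodule (ZMod 3) V), L (L w) ≠ 0
  · obtain ⟨v, hv, hQ, hc, hc'⟩ := three_exists' hL hW hN h3
    obtain ⟨hN1, hd1⟩ := three_split hL hW hN hv hQ hc
    have hW1 := pp_iv hL hW v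
    by_cases h4 : ∃ w ∈ pp Q L ⊤ v, L (L w) ≠ 0
    · left
      have hc1 : polar Q v (L (L v)) = 1 := by
        rcases hc' with h | h
        · exact h
        · obtain ⟨w, hw, hw'⟩ := h4
          exact absurd (h w hw) hw'
      obtain ⟨v', hv', hQ', hcc⟩ := three_exists hL hW1 hN1 h4
      obtain ⟨hN2, hd2⟩ := three_split hL hW1 hN1 hv' hQ' hcc
      have hW2 := pp_iv hL hW1 v'
      have h5 := no3 hL hW2 hN2 (by omega)
      have h6 := no2 hL hW2 hN2 h5 (by omega)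
      obtain ⟨d, p, hp⟩ := ones_exists hL 1 _ hN2 h6 (by omega)
      have h7 := (hp.three hL hW1 hN1 hv' hQ' hcc).three hL hW hN hv hQ hc
      rw [hc1] at h7
      exact ⟨_, d, _, h7⟩
    · push Not at h4
      by_cases h5 : ∃ w ∈ pp Q L ⊤ v, L w ≠ 0
      · right; left
        obtain ⟨u, hu, w, hw, hQu, hQw, huw, huw1⟩ := two_exists hL hW1 hN1 h4 h5
        obtain ⟨hN2, hd2⟩ := (two_split hL hW1 hN1 h4 hu hw hQu hQw huw huw1)
        have hW2 := pp_iv hL (pp_iv hL hW1 u) w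
        have h6 := no2 hL hW2 hN2 (fun y hy => h4 y (mem_pp.1 (mem_pp.1 hy).1).1) (by omega)
        obtain ⟨d, p, hp⟩ := ones_exists hL 0 _ hN2 h6 (by omega)
        exact ⟨_, d, _, (FrW.two hL hW1 hN1 h4 hu hw hQu hQw huw huw1 hp).three hL hW hN hv hQ hc⟩
      · push Not at h5
        right; right; left
        obtain ⟨d, p, hp⟩ := ones_exists hL 4 _ hN1 h5 (by omega)
        exact ⟨_, d, _, hp.three hL hW hN hv hQ hc⟩
  · push Not at h3
    right; right; right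
    obtain ⟨w0, hw0⟩ := h0
    obtain ⟨u, hu, w, hw, hQu, hQw, huw, huw1⟩ := two_exists hL hW hN h3 ⟨w0, trivial, hw0⟩
    obtain ⟨hN1, hd1⟩ := two_split hL hW hN h3 hu hw hQu hQw huw huw1
    have hW1 := pp_iv hL (pp_iv hL hW u) w
    by_cases h4 : ∃ y ∈ pp Q L (pp Q L ⊤ u) w, L y ≠ 0
    · left
      obtain ⟨u', hu', w', hw', hQu', hQw', huw', huw1'⟩ := two_exists hL hW1 hN1 (fun y _ => h3 y trivial) h4
      have hd2 := (two_split hL hW1 hN1 (fun y _ => h3 y trivial) hu' hw' hQu' hQw' huw' huw1').2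
      exact ⟨_, FrW.two hL hW hN h3 hu hw hQu hQw huw huw1
        (FrW.two hL hW1 hN1 (fun y _ => h3 y trivial) hu' hw' hQu' hQw' huw' huw1' (FrW.nil (by omega)))⟩
    · push Not at h4
      right
      obtain ⟨d, p, hp⟩ := ones_exists hL 3 _ hN1 h4 (by omega)
      exact ⟨d, _, FrW.two hL hW hN h3 hu hw hQu hQw huw huw1 hp⟩

end Cfsg.Agent.H844.Unip
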